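import Mathlib

/-!
# The numerical part of the classification with a centraliser of order four
-/

set_option autoImplicit false

namespace CfsgLib.Recog.SmallCentralizer

/-- The finite search behind `both_arith`. -/
def searchB (N F : ℕ) : Bool :=
  (List.range 210).all fun b => b % 2 == 0 || Nat.blt b 3 || F % b != 0 ||
    (List.range (b + 1)).all fun a => a % 2 == 0 || Nat.blt a 3 || F % (a * b) != 0 ||
      Nat.blt F (48 * N * a * b ^ 3) || Nat.blt (45 * (a + b) ^ 2) (12 * N * (b * b)) ||
      (List.range (7 * (a + b) / 2 + 1)).all fun t => Nat.blt t (2 * (a + b)) ||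
        Nat.blt (t * t - (a + b) ^ 2) (3 * N * (b * b)) || (t * t - (a + b) ^ 2) % N != 0 ||
        (t * t - (a + b) ^ 2) % 2 == 0 || F % (16 * (a * b) * (t * t - (a + b) ^ 2)) != 0 ||
        (a == 3 && b == 3 && t * t - (a + b) ^ 2 == 405)

theorem searchB_one : searchB 1 1 = true := by decide +kernel
theorem searchB_three : searchB 3 6 = true := by decide +kernel
theorem searchB_five : searchB 5 120 = true := by decide +kernel
theorem searchB_seven : searchB 7 5040 = true := by decide +kernel
theorem searchB_nine : searchB 9 362880 = true := by decide +kernel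
theorem searchB_eleven : searchB 11 39916800 = true := by decide +kernel
theorem searchB_thirteen : searchB 13 6227020800 = true := by decide +kernel
theorem searchB_fifteen : searchB 15 1307674368000 = true := by decide +kernel

theorem both_arith {N i a b t : ℕ} (hN : Odd N) (ha : Odd a) (hb : Odd b) (ha3 : 3 ≤ a)
    (hab : a ≤ b) (hio : Odd i) (hNi : N ∣ i) (hn : 3 * N * b ^ 2 ≤ i)
    (ht : i + (a + b) ^ 2 = t ^ 2) (hlo : 2 * (a + b) ≤ t) (hhi : 2 * t ≤ 7 * (a + b))
    (hfac : 16 * (a * b) * i ∣ N.factorial) : a = 3 ∧ b = 3 ∧ i = 405 := by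
  have h45 : 4 * i ≤ 45 * (a + b) ^ 2 := by nlinarith
  have hsb : (a + b) ^ 2 ≤ 4 * b ^ 2 := by nlinarith
  have hN15 : N ≤ 15 := by
    by_contra h
    nlinarith [mul_le_mul_of_nonneg_right (Nat.not_le.1 h : 16 ≤ N) (Nat.zero_le (b ^ 2)),
      (pow_pos (by omega : 0 < b) 2)]
  have hsz : 48 * N * a * b ^ 3 ≤ N.factorial := by
    refine le_trans ?_ (Nat.le_of_dvd (Nat.factorial_pos N) hfac)
    calc 48 * N * a * b ^ 3 = 16 * (a * b) * (3 * N * b ^ 2) := by ring
      _ ≤ 16 * (a * b) * i := Nat.mul_le_mul_left _ hn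
  have hbN : searchB N N.factorial = true ∧ b < 210 := by
    obtain ⟨k, hk⟩ := hN
    have hk7 : k ≤ 7 := by omega
    subst hk
    have key : ∀ {F c : ℕ}, F < c * 210 ^ 3 → c * b ^ 3 ≤ F → b < 210 := by
      intro F c hF hc
      by_contra h
      have := Nat.mul_le_mul_left c (Nat.pow_le_pow_left (Nat.not_lt.1 h) 3)
      omega
    interval_cases k <;> norm_num [Nat.factorial] at hsz ⊢
    · exact ⟨searchB_one, key (c := 48 * 1 * 3) (F := 1) (by norm_num) (by nlinarith [pow_pos (by omega : 0 < b) 3])⟩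
    · exact ⟨searchB_three, key (c := 48 * 3 * 3) (F := 6) (by norm_num) (by nlinarith [pow_pos (by omega : 0 < b) 3])⟩
    · exact ⟨searchB_five, key (c := 48 * 5 * 3) (F := 120) (by norm_num) (by nlinarith [pow_pos (by omega : 0 < b) 3])⟩
    · exact ⟨searchB_seven, key (c := 48 * 7 * 3) (F := 5040) (by norm_num) (by nlinarith [pow_pos (by omega : 0 < b) 3])⟩
    · exact ⟨searchB_nine, key (c := 48 * 9 * 3) (F := 362880) (by norm_num) (by nlinarith [pow_pos (by omega : 0 < b) 3])⟩
    · exact ⟨searchB_eleven, key (c := 48 * 11 * 3) (F := 39916800) (by norm_num) (by nlinarith [pow_pos (by omega : 0 < b) 3])⟩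
    · exact ⟨searchB_thirteen, key (c := 48 * 13 * 3) (F := 6227020800) (by norm_num) (by nlinarith [pow_pos (by omega : 0 < b) 3])⟩
    · refine ⟨searchB_fifteen, ?_⟩
      have hab' : b = a := by
        by_contra hne
        have h1 : a + b < 2 * b := by omega
        nlinarith
      subst hab'
      by_contra h
      have := Nat.pow_le_pow_left (Nat.not_lt.1 h) 4
      nlinarith
  obtain ⟨hs, hb210⟩ := hbN
  have e : t * t - (a + b) ^ 2 = i := by rw [← pow_two, ← ht]; omega
  have hbd : b ∣ N.factorial := dvd_trans ⟨16 * a * i, by ring⟩ hfac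
  have habd : a * b ∣ N.factorial := dvd_trans ⟨16 * i, by ring⟩ hfac
  simp only [searchB, List.all_eq_true, List.mem_range, Bool.or_eq_true, Bool.and_eq_true,
    beq_iff_eq, bne_iff_ne, Nat.blt_eq] at hs
  rcases hs b hb210 with ((h | h) | h) | h
  · have := Nat.odd_iff.1 hb; omega
  · omega
  · exact absurd (Nat.mod_eq_zero_of_dvd hbd) h
  rcases h a (by omega) with ((((h | h) | h) | h) | h) | h
  · have := Nat.odd_iff.1 ha; omega
  · omega
  · exact absurd (Nat.mod_eq_zero_of_dvd habd) h
  · omega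
  · nlinarith
  rcases h t (by omega) with ((((h | h) | h) | h) | h) | h
  · omega
  · rw [e] at h; nlinarith
  · rw [e] at h; exact absurd (Nat.mod_eq_zero_of_dvd hNi) h
  · rw [e] at h; have := Nat.odd_iff.1 hio; omega
  · rw [e] at h; exact absurd (Nat.mod_eq_zero_of_dvd hfac) h
  · rw [e] at h; exact ⟨h.1.1, h.1.2, h.2⟩

theorem one_one_arith {i t : ℕ} (hio : Odd i) (ht : i + 2 ^ 2 = t ^ 2) (hlo : 4 ≤ t)
    (hhi : t ≤ 7) : i = 21 ∨ i = 45 := by
  have := Nat.odd_iff.1 hio
  have ht' : i = t ^ 2 - 4 := by omega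
  interval_cases t
  all_goals norm_num at ht'
  all_goals omega

theorem three_one_arith {i t : ℕ} (hio : Odd i) (ht : i + 4 ^ 2 = t ^ 2) (hlo : 8 ≤ t)
    (hhi : t ≤ 14) (hdvd : ((t : ℤ) - 12) ∣ 16) : i = 105 ∨ i = 153 := by
  have := Nat.odd_iff.1 hio
  have ht' : i = t ^ 2 - 16 := by omega
  interval_cases t
  all_goals norm_num at ht'
  all_goals first
    | (clear hdvd; omega)
    | norm_num at hdvd

end CfsgLib.Recog.SmallCentralizer
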