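import Cfsg.Agent.Lib.GW.Basic

/-!
# An element of order four with self-centralising cyclic group in a dihedral Sylow 2-subgroup

The Sylow 2-subgroup has order eight. The odd part of the centraliser of the central involution
is abelian and splits over the two four-groups.
-/

set_option autoImplicit false

namespace CfsgLib.Recog.SmallCentralizer

open Subgroup DihedralGroup
open CfsgLib.TwoGroups CfsgLib.TwoGroups.Dihedral
open CfsgLib.Signalizer (involution_sq involution_inv involution_ne_one orderOf_eq_two_of orderOf_conj)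
open CfsgLib.GW (commute_of_mem_centralizer mem_centralizer_of_commute conj_eq_of_commute
  commute_of_conj_eq)

universe u

/-- Dihedral Sylow 2-subgroup of order eight whose cyclic subgroup of order four is self-centralising,
with one class of involutions. -/
structure Dat (G : Type u) [Group G] where
  S : Sylow 2 G
  f : DihedralGroup (2 ^ 2) →* G
  inj : Function.Injective f
  range : f.range = (S : Subgroup G)
  one_class : ∀ x y : G, orderOf x = 2 → orderOf y = 2 → IsConj x y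
  cent : ∀ x : G, Commute x (f (r 1)) → ∃ i, x = f (r i)

/-- The automorphism exchanging the two classes of reflections. -/
def shift : DihedralGroup (2 ^ 2) →* DihedralGroup (2 ^ 2) where
  toFun
    | r i => r i
    | sr i => sr (i + 1)
  map_one' := rfl
  map_mul' := by decide

theorem shift_bijective : Function.Bijective shift := by decide

variable {G : Type u} [Group G]

namespace Dat

variable (σ : Dat G)

/-- The central involution of the Sylow subgroup. -/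
def z : G := σ.f (r 2)

/-- The element of order four. -/
def w : G := σ.f (r 1)

/-- The reflection `sr i`. -/
def s (i : ZMod (2 ^ 2)) : G := σ.f (sr i)

/-- The odd part of the centraliser of the central involution. -/
noncomputable def U : Subgroup G := CfsgLib.GW.U σ.z

/-- The fixed points of a reflection on `U`. -/
noncomputable def D (i : ZMod (2 ^ 2)) : Subgroup G := σ.U ⊓ centralizer ({σ.s i} : Set G)

/-- The order of `D i`. -/
noncomputable def o (i : ZMod (2 ^ 2)) : ℕ := Nat.card (σ.D i)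

/-- The same configuration with the two four-groups exchanged. -/
def swap : Dat G where
  S := σ.S
  f := σ.f.comp shift
  inj := σ.inj.comp shift_bijective.injective
  range := by
    rw [MonoidHom.range_comp, MonoidHom.range_eq_top.2 shift_bijective.surjective,
      ← MonoidHom.range_eq_map]
    exact σ.range
  one_class := σ.one_class
  cent := fun x hx => by
    obtain ⟨i, hi⟩ := σ.cent x hx
    exact ⟨i, hi⟩

theorem swap_z : σ.swap.z = σ.z := rfl

theorem swap_s (i : ZMod (2 ^ 2)) : σ.swap.s i = σ.s (i + 1) := rfl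

theorem swap_U : σ.swap.U = σ.U := rfl

theorem swap_D (i : ZMod (2 ^ 2)) : σ.swap.D i = σ.D (i + 1) := rfl

theorem orderOf_f (p : DihedralGroup (2 ^ 2)) : orderOf (σ.f p) = orderOf p :=
  orderOf_injective σ.f σ.inj p

theorem orderOf_z : orderOf σ.z = 2 := by
  rw [z, orderOf_f]; exact orderOf_eq_prime (by decide) (by decide)

theorem orderOf_s (i : ZMod (2 ^ 2)) : orderOf (σ.s i) = 2 := by
  rw [s, orderOf_f, orderOf_sr]

theorem orderOf_w : orderOf σ.w = 4 := by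
  rw [w, orderOf_f, orderOf_r_one]; norm_num

theorem w_mul_w : σ.w * σ.w = σ.z := by rw [w, z, ← map_mul]; rfl

theorem commute_z (p : DihedralGroup (2 ^ 2)) : Commute (σ.f p) σ.z := by
  have h : ∀ p : DihedralGroup (2 ^ 2), p * r 2 = r 2 * p := by decide
  show σ.f p * σ.f (r 2) = σ.f (r 2) * σ.f p
  rw [← map_mul, ← map_mul, h]

theorem commute_s_z (i : ZMod (2 ^ 2)) : Commute (σ.s i) σ.z := σ.commute_z _

theorem commute_w_z : Commute σ.w σ.z := σ.commute_z _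

theorem s_ne_z (i : ZMod (2 ^ 2)) : σ.s i ≠ σ.z := fun h => by cases σ.inj h

theorem z_mul_s (i : ZMod (2 ^ 2)) : σ.z * σ.s i = σ.s (i + 2) := by
  rw [z, s, s, ← map_mul, r_mul_sr]
  congr 2
  revert i; decide

theorem s_mul_w (i : ZMod (2 ^ 2)) : σ.s i * σ.w = σ.s (i + 1) := by
  rw [w, s, s, ← map_mul, sr_mul_r]

theorem conj_w_s (i : ZMod (2 ^ 2)) : σ.w * σ.s i * σ.w⁻¹ = σ.s (i + 2) := by
  rw [w, s, s, ← map_inv, ← map_mul, ← map_mul]
  congr 1
  revert i; decide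

section Finite

variable [Finite G]

theorem complement_z : Cfsg.HasNormalPComplement 2 (centralizer ({σ.z} : Set G)) :=
  centralizer_complement σ.inj σ.range one_le_two σ.orderOf_z

theorem mem_U {x : G} : x ∈ σ.U ↔ Commute x σ.z ∧ Odd (orderOf x) := by
  have hc := σ.complement_z
  constructor
  · rintro ⟨y, hy, rfl⟩
    refine ⟨commute_of_mem_centralizer y.2, ?_⟩
    have := (CfsgLib.Transfer.mem_pResidual_iff_coprime hc).1 hy
    rwa [Nat.coprime_two_right, ← Subgroup.orderOf_coe] at this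
  · rintro ⟨h1, h2⟩
    exact ⟨⟨x, mem_centralizer_of_commute h1⟩, (CfsgLib.Transfer.mem_pResidual_iff_coprime hc).2
      (by rw [Subgroup.orderOf_mk]; exact Nat.coprime_two_right.2 h2), rfl⟩

theorem odd_U : Odd (Nat.card σ.U) := by
  rw [U, CfsgLib.GW.U, card_map_of_injective (centralizer ({σ.z} : Set G)).subtype_injective,
    ← Nat.coprime_two_right]
  exact CfsgLib.Transfer.hasNormalPComplement_iff_coprime.1 σ.complement_z

theorem odd_orderOf {x : G} (hx : x ∈ σ.U) : Odd (orderOf x) := (σ.mem_U.1 hx).2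

theorem conj_mem_U {g x : G} (hg : Commute g σ.z) (hx : x ∈ σ.U) : g * x * g⁻¹ ∈ σ.U := by
  obtain ⟨h1, h2⟩ := σ.mem_U.1 hx
  refine σ.mem_U.2 ⟨?_, by rwa [orderOf_conj]⟩
  have := h1.map (MulAut.conj g).toMonoidHom
  simpa [conj_eq_of_commute hg] using this

theorem eq_one_of_mem_U {p : DihedralGroup (2 ^ 2)} (h : σ.f p ∈ σ.U) : p = 1 := by
  have h1 := σ.odd_orderOf h
  rw [orderOf_f] at h1
  refine orderOf_eq_one_iff.1 (Nat.eq_one_of_dvd_coprimes
    ((Nat.coprime_two_right.2 h1).pow_right 3) dvd_rfl ?_)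
  have := orderOf_dvd_natCard p
  rwa [DihedralGroup.nat_card, ← pow_succ'] at this

theorem f_mul_inj {p q : DihedralGroup (2 ^ 2)} {x y : G} (hx : x ∈ σ.U) (hy : y ∈ σ.U)
    (h : σ.f p * x = σ.f q * y) : p = q ∧ x = y := by
  have h1 : σ.f (q⁻¹ * p) = y * x⁻¹ := by
    rw [map_mul, map_inv, eq_mul_inv_iff_mul_eq, mul_assoc, h, inv_mul_cancel_left]
  have h2 : q⁻¹ * p = 1 := σ.eq_one_of_mem_U (h1 ▸ mul_mem hy (inv_mem hx))
  have h3 : q = p := inv_mul_eq_one.1 h2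
  subst h3
  exact ⟨rfl, mul_left_cancel h⟩

omit [Finite G] in
theorem natCard_sylow : Nat.card (σ.S : Subgroup G) = 8 := by
  rw [← Nat.card_congr (sylowEquiv σ.inj σ.range).symm.toEquiv, DihedralGroup.nat_card]
  norm_num

theorem natCard_cent : Nat.card (centralizer ({σ.z} : Set G)) = 8 * Nat.card σ.U := by
  classical
  have : Fact (Nat.Prime 2) := ⟨Nat.prime_two⟩
  set C := centralizer ({σ.z} : Set G) with hC
  obtain ⟨k, hk⟩ := CfsgLib.Transfer.exists_index_pResidual (p := 2) (G := C)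
  have hU : Nat.card (Cfsg.pResidual 2 C) = Nat.card σ.U := by
    rw [U, CfsgLib.GW.U, card_map_of_injective C.subtype_injective]
  have hcard : Nat.card C = Nat.card σ.U * 2 ^ k := by
    rw [← hk, ← hU, card_mul_index]
  have hSC : (σ.S : Subgroup G) ≤ C := by
    rw [← σ.range]
    rintro _ ⟨p, rfl⟩
    exact mem_centralizer_of_commute (σ.commute_z p)
  have h8 : 8 ∣ Nat.card σ.U * 2 ^ k := by
    rw [← hcard, ← σ.natCard_sylow]
    exact card_dvd_of_le hSC
  have h8' : 2 ^ 3 ∣ 2 ^ k :=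
    ((Nat.coprime_two_left.2 σ.odd_U).pow_left 3).dvd_of_dvd_mul_left h8
  have hG : 2 ^ k ∣ 8 * (σ.S : Subgroup G).index := by
    rw [← σ.natCard_sylow, card_mul_index]
    exact dvd_trans ⟨Nat.card σ.U, by rw [hcard, mul_comm]⟩ (card_subgroup_dvd_card C)
  have hidx : Nat.Coprime 2 (σ.S : Subgroup G).index :=
    (Nat.Prime.coprime_iff_not_dvd Nat.prime_two).2 σ.S.not_dvd_index
  have hk8 : 2 ^ k = 8 :=
    Nat.dvd_antisymm ((hidx.pow_left k).dvd_of_dvd_mul_right hG) h8'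
  rw [hcard, hk8, mul_comm]

theorem exists_split {x : G} (hx : Commute x σ.z) : ∃ p, ∃ y ∈ σ.U, x = σ.f p * y := by
  classical
  let φ : DihedralGroup (2 ^ 2) × σ.U → centralizer ({σ.z} : Set G) := fun v =>
    ⟨σ.f v.1 * v.2, mem_centralizer_of_commute ((σ.commute_z v.1).mul_left (σ.mem_U.1 v.2.2).1)⟩
  have hinj : Function.Injective φ := by
    rintro ⟨p, y, hy⟩ ⟨q, y', hy'⟩ h
    obtain ⟨rfl, rfl⟩ := σ.f_mul_inj hy hy' (congrArg Subtype.val h)
    rfl
  have hbij : Function.Bijective φ := by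
    refine (Nat.bijective_iff_injective_and_card φ).2 ⟨hinj, ?_⟩
    rw [Nat.card_prod, DihedralGroup.nat_card, σ.natCard_cent]
    norm_num
  obtain ⟨⟨p, y⟩, hv⟩ := hbij.surjective ⟨x, mem_centralizer_of_commute hx⟩
  exact ⟨p, y, y.2, (congrArg Subtype.val hv).symm⟩

theorem w_inverts {x : G} (hx : x ∈ σ.U) : σ.w * x * σ.w⁻¹ = x⁻¹ := by
  classical
  set u := σ.w with hu
  have hn : ∀ a ∈ σ.U, u * a * u⁻¹ ∈ σ.U := fun a ha => σ.conj_mem_U σ.commute_w_z ha
  have hfix : ∀ a ∈ σ.U, u * a * u⁻¹ = a → a = 1 := by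
    intro a ha h
    obtain ⟨i, hi⟩ := σ.cent a (commute_of_conj_eq h).symm
    rw [hi] at ha ⊢
    rw [σ.eq_one_of_mem_U ha, map_one]
  have hinj : Function.Injective
      (fun a : ↥σ.U => (⟨(a : G)⁻¹ * (u * a * u⁻¹), mul_mem (inv_mem a.2) (hn a a.2)⟩ : ↥σ.U)) := by
    intro a b h
    have h' : (a : G)⁻¹ * (u * a * u⁻¹) = (b : G)⁻¹ * (u * b * u⁻¹) := congrArg Subtype.val h
    have hfx : u * ((b : G) * (a : G)⁻¹) * u⁻¹ = (b : G) * (a : G)⁻¹ := by
      calc u * ((b : G) * (a : G)⁻¹) * u⁻¹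
          = b * ((b : G)⁻¹ * (u * b * u⁻¹)) * ((a : G)⁻¹ * (u * a * u⁻¹))⁻¹ * (a : G)⁻¹ := by group
        _ = _ := by rw [h']; group
    exact Subtype.ext (mul_inv_eq_one.mp (hfix _ (mul_mem b.2 (inv_mem a.2)) hfx)).symm
  obtain ⟨a, ha⟩ := (Finite.injective_iff_surjective.mp hinj) ⟨x, hx⟩
  have ha' : (a : G)⁻¹ * (u * a * u⁻¹) = x := congrArg Subtype.val ha
  have h2 : (u * u) * (a : G) * (u * u)⁻¹ = a := by
    rw [hu, σ.w_mul_w]
    exact conj_eq_of_commute (σ.mem_U.1 a.2).1.symm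
  rw [← ha']
  calc u * ((a : G)⁻¹ * (u * a * u⁻¹)) * u⁻¹ = (u * a * u⁻¹)⁻¹ * ((u * u) * a * (u * u)⁻¹) := by group
    _ = ((a : G)⁻¹ * (u * a * u⁻¹))⁻¹ := by rw [h2]; group

theorem comm_U {x y : G} (hx : x ∈ σ.U) (hy : y ∈ σ.U) : x * y = y * x :=
  CfsgLib.PGroups.BSW.commute_of_inverted σ.U (fun _ ha => σ.w_inverts ha) hx hy

theorem mem_D {i : ZMod (2 ^ 2)} {x : G} :
    x ∈ σ.D i ↔ Commute x σ.z ∧ Odd (orderOf x) ∧ Commute x (σ.s i) := by
  show x ∈ σ.U ∧ x ∈ centralizer ({σ.s i} : Set G) ↔ _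
  rw [σ.mem_U, and_assoc]
  exact and_congr_right fun _ => and_congr_right fun _ =>
    ⟨commute_of_mem_centralizer, mem_centralizer_of_commute⟩

theorem D_add_two (i : ZMod (2 ^ 2)) : σ.D (i + 2) = σ.D i := by
  ext x
  simp only [σ.mem_D]
  refine and_congr_right fun hz => and_congr_right fun _ => ?_
  constructor
  · intro h
    have h' := hz.mul_right h
    rw [z_mul_s] at h'
    rwa [show i + 2 + 2 = i by rw [add_assoc]; exact add_zero i] at h'
  · intro h
    rw [← z_mul_s]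
    exact hz.mul_right h

theorem swap_o_zero : σ.swap.o 0 = σ.o 1 := by rw [o, o, swap_D, zero_add]

theorem swap_o_one : σ.swap.o 1 = σ.o 0 := by
  rw [o, o, swap_D, show (1 : ZMod (2 ^ 2)) + 1 = 0 + 2 by decide, D_add_two]

theorem odd_o (i : ZMod (2 ^ 2)) : Odd (σ.o i) :=
  σ.odd_U.of_dvd_nat (card_dvd_of_le inf_le_left)

theorem o_pos (i : ZMod (2 ^ 2)) : 0 < σ.o i := (σ.odd_o i).pos

theorem s_conj_of_mem {i : ZMod (2 ^ 2)} {x : G} (hx : x ∈ σ.D i) :
    σ.s (i + 1) * x * (σ.s (i + 1))⁻¹ = x⁻¹ := by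
  rw [← s_mul_w]
  calc σ.s i * σ.w * x * (σ.s i * σ.w)⁻¹ = σ.s i * (σ.w * x * σ.w⁻¹) * (σ.s i)⁻¹ := by group
    _ = σ.s i * x⁻¹ * (σ.s i)⁻¹ := by rw [σ.w_inverts hx.1]
    _ = x⁻¹ := conj_eq_of_commute (σ.mem_D.1 hx).2.2.symm.inv_right

theorem disjoint_D {x : G} (h0 : x ∈ σ.D 0) (h1 : x ∈ σ.D 1) : x = 1 := by
  have h := σ.s_conj_of_mem h0
  rw [zero_add, conj_eq_of_commute (σ.mem_D.1 h1).2.2.symm] at h
  exact CfsgLib.GW.eq_one_of_inv_self (σ.odd_orderOf h0.1) h.symm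

theorem exists_D_split {x : G} (hx : x ∈ σ.U) :
    ∃ p ∈ σ.D 0, ∃ q ∈ σ.D 1, x = p * q := by
  set a := σ.s 0 with ha
  have haz : Commute a σ.z := σ.commute_s_z 0
  set y := a * x * a⁻¹ with hy
  have hyU : y ∈ σ.U := σ.conj_mem_U haz hx
  have hay : a * y * a⁻¹ = x := by
    have h2 : a * a = 1 := involution_sq (σ.orderOf_s 0)
    rw [hy, show a * (a * x * a⁻¹) * a⁻¹ = (a * a) * x * (a * a)⁻¹ by group, h2]
    simp
  have hcomm : Commute x y := σ.comm_U hx hyU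
  have hb : ∀ u : G, u ∈ σ.U → σ.s 1 * u * (σ.s 1)⁻¹ = (a * u * a⁻¹)⁻¹ := by
    intro u hu
    have e : σ.s 1 = a * σ.w := by rw [ha, s_mul_w, zero_add]
    rw [e, show a * σ.w * u * (a * σ.w)⁻¹ = a * (σ.w * u * σ.w⁻¹) * a⁻¹ by group, σ.w_inverts hu]
    group
  have hp : x * y ∈ σ.D 0 := ⟨mul_mem hx hyU, mem_centralizer_of_commute (commute_of_conj_eq (by
    rw [← ha, show a * (x * y) * a⁻¹ = a * x * a⁻¹ * (a * y * a⁻¹) by group, ← hy, hay]
    exact hcomm.symm.eq)).symm⟩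
  have hq : x * y⁻¹ ∈ σ.D 1 := ⟨σ.U.mul_mem hx (σ.U.inv_mem hyU),
    mem_centralizer_of_commute (commute_of_conj_eq (by
      rw [hb _ (mul_mem hx (inv_mem hyU)),
        show a * (x * y⁻¹) * a⁻¹ = a * x * a⁻¹ * (a * y * a⁻¹)⁻¹ by group, ← hy, hay]
      group)).symm⟩
  obtain ⟨k, hk⟩ := σ.odd_orderOf hx
  have hcpq : Commute (x * y) (x * y⁻¹) := σ.comm_U hp.1 hq.1
  refine ⟨(x * y) ^ (k + 1), pow_mem hp _, (x * y⁻¹) ^ (k + 1), pow_mem hq _, ?_⟩
  have e : x * y * (x * y⁻¹) = x ^ 2 := by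
    rw [pow_two, mul_assoc, ← mul_assoc y x, hcomm.symm.eq]; group
  rw [← hcpq.mul_pow, e, ← pow_mul, show 2 * (k + 1) = orderOf x + 1 by omega, pow_succ,
    pow_orderOf_eq_one, one_mul]

theorem natCard_U : Nat.card σ.U = σ.o 0 * σ.o 1 := by
  classical
  rw [o, o, ← Nat.card_prod]
  refine (Nat.card_eq_of_bijective
    (fun v : σ.D 0 × σ.D 1 => (⟨v.1 * v.2, mul_mem v.1.2.1 v.2.2.1⟩ : σ.U)) ⟨?_, ?_⟩).symm
  · rintro ⟨⟨p, hp⟩, q, hq⟩ ⟨⟨p', hp'⟩, q', hq'⟩ h
    have h' : p * q = p' * q' := congrArg Subtype.val h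
    have h1 : p'⁻¹ * p = q' * q⁻¹ := by
      rw [eq_mul_inv_iff_mul_eq, mul_assoc, h', inv_mul_cancel_left]
    have h2 := σ.disjoint_D (mul_mem (inv_mem hp') hp) (h1 ▸ mul_mem hq' (inv_mem hq))
    obtain rfl : p' = p := inv_mul_eq_one.1 h2
    obtain rfl : q = q' := mul_left_cancel h'
    rfl
  · rintro ⟨x, hx⟩
    obtain ⟨p, hp, q, hq, rfl⟩ := σ.exists_D_split hx
    exact ⟨(⟨p, hp⟩, ⟨q, hq⟩), rfl⟩

omit [Finite G] in
theorem mem_pair {t u x : G} :
    x ∈ centralizer ({t, u} : Set G) ↔ Commute x t ∧ Commute x u := by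
  rw [mem_centralizer_iff]
  simp only [Set.mem_insert_iff, Set.mem_singleton_iff, forall_eq_or_imp, forall_eq]
  exact ⟨fun h => ⟨h.1.symm, h.2.symm⟩, fun h => ⟨h.1.eq.symm, h.2.eq.symm⟩⟩

theorem exists_split_pair {i : ZMod (2 ^ 2)} {x : G} (hz : Commute x σ.z)
    (hs : Commute x (σ.s i)) :
    ∃ p, p * sr i = sr i * p ∧ ∃ y ∈ σ.D i, x = σ.f p * y := by
  obtain ⟨p, y, hy, rfl⟩ := σ.exists_split hz
  set t := σ.s i with ht
  have hyt : t * y * t⁻¹ ∈ σ.U := σ.conj_mem_U (σ.commute_s_z i) hy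
  have h : σ.f (sr i * p * (sr i)⁻¹) * (t * y * t⁻¹) = σ.f p * y := by
    rw [map_mul, map_mul, map_inv]
    refine Eq.trans ?_ (conj_eq_of_commute hs.symm)
    show σ.f (sr i) * σ.f p * (σ.f (sr i))⁻¹ * (t * y * t⁻¹) = t * (σ.f p * y) * t⁻¹
    rw [show σ.f (sr i) = t from rfl]; group
  obtain ⟨hp, hy'⟩ := σ.f_mul_inj hyt hy h
  exact ⟨p, (mul_inv_eq_iff_eq_mul.1 hp).symm, y,
    ⟨hy, mem_centralizer_of_commute (commute_of_conj_eq hy').symm⟩, rfl⟩

theorem natCard_pair (i : ZMod (2 ^ 2)) :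
    Nat.card (centralizer ({σ.z, σ.s i} : Set G)) = 4 * σ.o i := by
  classical
  have h4 : ∀ i : ZMod (2 ^ 2),
      Fintype.card {p : DihedralGroup (2 ^ 2) // p * sr i = sr i * p} = 4 := by decide
  rw [o, ← h4 i, ← Nat.card_eq_fintype_card, ← Nat.card_prod]
  refine (Nat.card_eq_of_bijective
    (fun v : {p : DihedralGroup (2 ^ 2) // p * sr i = sr i * p} × σ.D i =>
      (⟨σ.f v.1 * v.2, mem_pair.2 ⟨(σ.commute_z _).mul_left (σ.mem_D.1 v.2.2).1,
        (show Commute (σ.f v.1) (σ.s i) by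
          show σ.f v.1 * σ.f (sr i) = σ.f (sr i) * σ.f v.1
          rw [← map_mul, ← map_mul, v.1.2]).mul_left (σ.mem_D.1 v.2.2).2.2⟩⟩ :
        centralizer ({σ.z, σ.s i} : Set G))) ⟨?_, ?_⟩).symm
  · rintro ⟨⟨p, hp⟩, y, hy⟩ ⟨⟨q, hq⟩, y', hy'⟩ h
    obtain ⟨rfl, rfl⟩ := σ.f_mul_inj hy.1 hy'.1 (congrArg Subtype.val h)
    rfl
  · rintro ⟨x, hx⟩
    obtain ⟨hz, hs⟩ := mem_pair.1 hx
    obtain ⟨p, hp, y, hy, rfl⟩ := σ.exists_split_pair hz hs
    exact ⟨(⟨p, hp⟩, ⟨y, hy⟩), rfl⟩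

theorem pair_add_two (i : ZMod (2 ^ 2)) :
    centralizer ({σ.z, σ.s (i + 2)} : Set G) = centralizer ({σ.z, σ.s i} : Set G) := by
  ext x
  rw [mem_pair, mem_pair]
  refine and_congr_right fun hz => ?_
  constructor
  · intro h
    have h' := hz.mul_right h
    rw [z_mul_s] at h'
    rwa [show i + 2 + 2 = i by rw [add_assoc]; exact add_zero i] at h'
  · intro h
    rw [← z_mul_s]
    exact hz.mul_right h

/-- The number of conjugates of the central involution. -/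
noncomputable def idx : ℕ := (centralizer ({σ.z} : Set G)).index

theorem natCard_G : Nat.card G = 8 * (σ.o 0 * σ.o 1) * σ.idx := by
  rw [idx, ← σ.natCard_U, ← σ.natCard_cent, card_mul_index]

theorem odd_idx : Odd σ.idx := by
  refine Nat.not_even_iff_odd.1 fun h => σ.S.not_dvd_index (dvd_trans h.two_dvd
    (index_dvd_of_le ?_))
  rw [← σ.range]
  rintro _ ⟨p, rfl⟩
  exact mem_centralizer_of_commute (σ.commute_z p)

end Finite

end Dat

end CfsgLib.Recog.SmallCentralizer
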