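import Cfsg.Agent.Lib.Recog.SmallCentralizer.OddPart
import Cfsg.Agent.Lib.Recog.SmallCentralizer.Arith
import Cfsg.Agent.Lib.Perm.SimpleOrders.Special
import Cfsg.Agent.Lib.Perm.SimpleOrders.GapRange

/-!
# Both four-groups with nontrivial odd centralisers

The order formula and the action on the conjugates of an odd element leave no simple group.
-/

set_option autoImplicit false

namespace CfsgLib.Recog.SmallCentralizer

open Subgroup
open CfsgLib.Perm

universe u

variable {G : Type u} [Group G] [Finite G] [IsSimpleGroup G]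

/-- There is no simple group of order `29160`. -/
theorem false_29160 (hG : ¬ IsMulCommutative G) (h : Nat.card G = 29160) : False := by
  have : Fact (Nat.Prime 3) := ⟨Nat.prime_three⟩
  have hm : Nat.card G = 3 ^ 6 * 40 := by rw [h]; norm_num
  have hmem := TwoGroups.SmallOrders.card_sylow_mem_cands hG hm (by norm_num) (by norm_num)
    (by norm_num)
  have hmod : ∀ k ∈ TwoGroups.SmallOrders.cands 3 6 40, k % 9 ≠ 1 := by decide +kernel
  obtain ⟨R, S, hRS, hidx⟩ := exists_sylow_pair_index_le (G := G) 3 2 (by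
    intro e
    exact hmod _ hmem (by simpa [Nat.ModEq] using e))
  obtain ⟨H, hH, -, hle⟩ :=
    TwoGroups.SmallOrders.exists_large_subgroup hm (by norm_num) (by norm_num) hRS
      (by simpa using hidx)
  have hdiv : ¬ 2 * Nat.card G ∣ Nat.factorial 10 := by rw [h]; decide +kernel
  exact hdiv (two_mul_card_dvd_factorial_of_index_le hG H hH (by omega))

/-- There is no simple group of order `3672`. -/
theorem false_3672 (hG : ¬ IsMulCommutative G) (h : Nat.card G = 3672) : False := by
  have := SimpleOrders.orders_lt_six_thousand hG (by omega)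
  rw [h] at this
  exact absurd this (by decide)

namespace Dat

omit [Finite G] [IsSimpleGroup G] in
theorem not_isMulCommutative (σ : Dat G) : ¬ IsMulCommutative G := by
  intro h
  have h' : σ.w * σ.s 0 * σ.w⁻¹ = σ.s 0 := CfsgLib.GW.conj_eq_of_commute (h.is_comm.comm _ _)
  rw [conj_w_s] at h'
  exact absurd (DihedralGroup.sr.inj (σ.inj h')) (by decide)

theorem exists_ne_one_D (σ : Dat G) {i : ZMod (2 ^ 2)} (h : 2 ≤ σ.o i) :
    ∃ d ∈ σ.D i, d ≠ 1 := by
  have : Nontrivial (σ.D i) := Finite.one_lt_card_iff_nontrivial.1 h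
  obtain ⟨⟨d, hd⟩, hne⟩ := exists_ne (1 : σ.D i)
  exact ⟨d, hd, fun e => hne (Subtype.ext e)⟩

theorem false_of_both (σ : Dat G) (h0 : 2 ≤ σ.o 0) (h1 : 2 ≤ σ.o 1) : False := by
  suffices key : ∀ τ : Dat G, 2 ≤ τ.o 0 → τ.o 0 ≤ τ.o 1 → False by
    rcases le_total (σ.o 0) (σ.o 1) with h | h
    · exact key σ h0 h
    · exact key σ.swap (by rw [σ.swap_o_zero]; exact h1) (by rw [σ.swap_o_zero, σ.swap_o_one]; exact h)
  intro τ hp hle
  obtain ⟨d, hd, hd1⟩ := τ.exists_ne_one_D hp
  obtain ⟨N, n, hN, -, -, hi, -, hn, -, hfac⟩ := τ.exists_index hd hd1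
  obtain ⟨t, ht, hlo, hhi, -⟩ := τ.exists_t
  have hG := τ.natCard_G
  have h3 : 3 ≤ τ.o 0 := by have := Nat.odd_iff.1 (τ.odd_o 0); omega
  obtain ⟨e0, e1, ei⟩ := both_arith hN (τ.odd_o 0) (τ.odd_o 1) h3 hle τ.odd_idx ⟨n, hi⟩
    (by rw [hi]; nlinarith) ht hlo hhi (by rw [hG] at hfac; ring_nf at hfac ⊢; exact hfac)
  exact false_29160 τ.not_isMulCommutative (by rw [hG, e0, e1, ei])

end Dat

end CfsgLib.Recog.SmallCentralizer
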