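import Cfsg.Agent.Lib.Recog.SmallCentralizer.One

/-!
# Fifteen involutions centralise `U`

The centraliser of an outer involution of `M` then meets `C(U)` in an odd element, which forces `U`
to be too small.
-/

set_option autoImplicit false
set_option linter.unusedSectionVars false

namespace CfsgLib.Recog.SmallCentralizer

open Subgroup DihedralGroup
open CfsgLib.Signalizer (involution_sq involution_inv involution_ne_one orderOf_eq_two_of orderOf_conj)
open CfsgLib.GW (commute_of_mem_centralizer mem_centralizer_of_commute conj_eq_of_commute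
  commute_of_conj_eq eq_one_of_inv_self)

universe u

variable {G : Type u} [Group G]

namespace OneSided

variable [Finite G] [IsSimpleGroup G] {σ : Dat G} (h : OneSided σ)

include h

theorem I_trans {v u t : G} (hv : v ∈ σ.I) (hu : u ∈ σ.I) (ht : t ∈ σ.I) (h1 : Commute v u)
    (h2 : Commute u t) : Commute v t := by
  obtain ⟨d, hd, hd1⟩ := h.exists_ne_one
  exact h.comm_trans hd hd1 ((h.mem_I_iff hd hd1).1 hv) ((h.mem_I_iff hd hd1).1 hu)
    ((h.mem_I_iff hd hd1).1 ht) h1 h2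

theorem I_comm_of_conj {y v : G} (hy : y ∈ σ.I) (hv : v ∈ σ.I) (hc : Commute (y * v * y⁻¹) v) :
    Commute y v := by
  obtain ⟨d, hd, hd1⟩ := h.exists_ne_one
  exact h.comm_of_conj hd hd1 ((h.mem_I_iff hd hd1).1 hy) ((h.mem_I_iff hd hd1).1 hv) hc

theorem false_of_fifteen (h15 : Nat.card σ.I = 15) : False := by
  classical
  obtain ⟨d, hd, hd1⟩ := h.exists_ne_one
  have hIeq : σ.I = invs (centralizer ({d} : Set G)) := Set.ext fun v => h.mem_I_iff hd hd1
  have hInv : ∀ {v : G}, v ∈ σ.I → v ∈ invs (centralizer ({d} : Set G)) := fun hv => hIeq ▸ hv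
  obtain ⟨v₁, hv₁, hv₁z⟩ : ∃ v ∈ σ.I, ¬ Commute v σ.z := by
    by_contra hno
    push Not at hno
    have hsub : σ.I ⊆ ({σ.z, σ.s 0, σ.z * σ.s 0} : Set G) := fun v hv => by
      simpa using h.cases_of_commute_z hd hd1 (hInv hv) (hno v hv)
    have h1 := Set.ncard_le_ncard hsub (Set.toFinite _)
    have h2 : ({σ.z, σ.s 0, σ.z * σ.s 0} : Set G).ncard ≤ 3 := by
      refine le_trans (Set.ncard_insert_le _ _) ?_
      exact Nat.succ_le_succ (le_trans (Set.ncard_insert_le _ _) (by simp))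
    rw [Nat.card_coe_set_eq] at h15
    omega
  obtain ⟨-, hcov⟩ := h.count hd hd1 (hInv hv₁) hv₁z
  set b := σ.s 1 with hb
  set a := σ.s 0 with ha
  set w := σ.w with hw
  have hwM : w ∈ σ.M := h.cz_le_M σ.commute_w_z
  have hbM : b ∈ σ.M := h.cz_le_M (σ.commute_s_z 1)
  have haM : a ∈ σ.M := h.cz_le_M (σ.commute_s_z 0)
  have hwz : w * σ.z * w⁻¹ = σ.z := conj_eq_of_commute σ.commute_w_z
  have hnz : ∀ {x v : G}, Commute x σ.z → ¬ Commute v σ.z → ¬ Commute (x * v * x⁻¹) σ.z :=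
    fun {x v} hx hv hc => hv ((commute_conj_iff (g := x)).1 (by rwa [conj_eq_of_commute hx]))
  have hww : ∀ v : G, w * (w * v * w⁻¹) * w⁻¹ = σ.z * v * σ.z⁻¹ := by
    intro v
    rw [hw, ← σ.w_mul_w]; group
  have hnot : ∀ v ∈ σ.I, ¬ Commute v σ.z → ¬ Commute (w * v * w⁻¹) v := by
    intro v hv hvz hc
    have h1 := conj_commute (g := w) hc
    rw [hww] at h1
    exact hvz (h.I_comm_of_conj h.z_mem_I hv (h.I_trans
      (h.conj_mem_I (h.cz_le_M (Commute.refl _)) hv) (h.conj_mem_I hwM hv) hv h1 hc)).symm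
  -- `b` normalises a commuting triple away from `z`
  obtain ⟨v, hv, hvz, hbv⟩ : ∃ v ∈ σ.I, ¬ Commute v σ.z ∧ Commute (b * v * b⁻¹) v := by
    obtain ⟨p, hp, hc⟩ := hcov _ (hInv (h.conj_mem_I hwM hv₁)) (hnz σ.commute_w_z hv₁z)
    have key : ∀ p : DihedralGroup (2 ^ 2), p * sr 0 = sr 0 * p →
        p = 1 ∨ p = r 2 ∨ p = sr 0 ∨ p = sr 2 := by decide
    have hmove : ∀ q : DihedralGroup (2 ^ 2),
        Commute ((σ.f q)⁻¹ * w * v₁ * ((σ.f q)⁻¹ * w)⁻¹) v₁ ↔
          Commute (w * v₁ * w⁻¹) (σ.f q * v₁ * (σ.f q)⁻¹) := by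
      intro q
      rw [← commute_conj_iff (g := σ.f q)]
      rw [show σ.f q * ((σ.f q)⁻¹ * w * v₁ * ((σ.f q)⁻¹ * w)⁻¹) * (σ.f q)⁻¹ = w * v₁ * w⁻¹ by group]
    rcases key p hp with rfl | rfl | rfl | rfl
    · rw [map_one, one_mul, inv_one, mul_one] at hc
      exact absurd hc (hnot v₁ hv₁ hv₁z)
    · rw [show σ.f (r 2) = σ.z from rfl, ← hww] at hc
      exact absurd ((commute_conj_iff (g := w)).1 hc).symm (hnot v₁ hv₁ hv₁z)
    · refine ⟨v₁, hv₁, hv₁z, ?_⟩
      have h1 := (hmove _).2 hc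
      rwa [← map_inv, hw, Dat.w, ← map_mul,
        show (sr 0 : DihedralGroup (2 ^ 2))⁻¹ * r 1 = sr 1 by decide] at h1
    · refine ⟨w * v₁ * w⁻¹, h.conj_mem_I hwM hv₁, hnz σ.commute_w_z hv₁z, ?_⟩
      have h1 := (hmove _).2 hc
      rw [← map_inv, hw, Dat.w, ← map_mul,
        show (sr 2 : DihedralGroup (2 ^ 2))⁻¹ * r 1 = sr 3 by decide] at h1
      have h2 := conj_commute (g := w) h1
      have e : b = w * σ.s 3 * w⁻¹ := by rw [hw, σ.conj_w_s]; rfl
      rwa [e, show w * σ.s 3 * w⁻¹ * (w * v₁ * w⁻¹) * (w * σ.s 3 * w⁻¹)⁻¹ =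
        w * (σ.s 3 * v₁ * (σ.s 3)⁻¹) * w⁻¹ by group]
  obtain ⟨v', hv', hv'z, hv'b⟩ : ∃ v' ∈ σ.I, ¬ Commute v' σ.z ∧ Commute v' b := by
    by_cases e : b * v * b⁻¹ = v
    · exact ⟨v, hv, hvz, (commute_of_conj_eq e).symm⟩
    set t := b * v * b⁻¹ with ht
    have htI : t ∈ σ.I := h.conj_mem_I hbM hv
    have hxI : t * v ∈ σ.I := by
      refine ⟨orderOf_eq_two_of (fun e1 => e ?_) ?_, fun u hu => (htI.2 u hu).mul_left (hv.2 u hu)⟩
      · rw [← involution_sq hv.1] at e1; exact mul_right_cancel e1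
      · rw [show t * v * (t * v) = t * (v * t) * v by group, ← hbv.eq,
          show t * (t * v) * v = (t * t) * (v * v) by group, involution_sq htI.1, involution_sq hv.1,
          one_mul]
    refine ⟨t * v, hxI, fun hc => hvz (h.I_trans hv hxI h.z_mem_I
      (hbv.mul_left (Commute.refl v)).symm hc), (commute_of_conj_eq ?_).symm⟩
    calc b * (t * v) * b⁻¹ = (b * b) * v * (b * b)⁻¹ * t := by rw [ht]; group
      _ = v * t := by rw [hb, involution_sq (σ.orderOf_s 1)]; group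
      _ = t * v := hbv.symm.eq
  -- an odd element of `C(U)` commuting with `b`
  obtain ⟨x, hxo, hx1, hxb, hxU⟩ : ∃ x : G, Odd (orderOf x) ∧ x ≠ 1 ∧ Commute x b ∧
      ∀ u ∈ σ.U, Commute x u := by
    set y := σ.z * v' with hy
    obtain ⟨k, m, hm, hyo⟩ := Nat.exists_eq_two_pow_mul_odd (orderOf_pos y).ne'
    have hyb : Commute y b := (σ.commute_s_z 1).symm.mul_left hv'b
    have hyU : ∀ u ∈ σ.U, Commute y u := fun u hu => (h.z_mem_I.2 u hu).mul_left (hv'.2 u hu)
    refine ⟨y ^ 2 ^ k, ?_, ?_, hyb.pow_left _, fun u hu => (hyU u hu).pow_left _⟩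
    · rw [orderOf_pow_of_dvd (pow_ne_zero _ two_ne_zero) (hyo ▸ dvd_mul_right _ _), hyo,
        Nat.mul_div_cancel_left _ (pow_pos two_pos k)]
      exact hm
    intro e
    have hy1 : y ≠ 1 := fun e => hv'z (by
      rw [hy, mul_eq_one_iff_eq_inv, involution_inv hv'.1] at e
      rw [← e])
    obtain ⟨l, -, hl⟩ := (Nat.dvd_prime_pow Nat.prime_two).1 (orderOf_dvd_of_pow_eq_one e)
    have hl0 : l ≠ 0 := fun e0 => hy1 (orderOf_eq_one_iff.1 (by rw [hl, e0, pow_zero]))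
    set t := y ^ 2 ^ (l - 1) with ht
    have hto : orderOf t = 2 := by
      rw [ht, orderOf_pow_of_dvd (pow_ne_zero _ two_ne_zero)
        (hl ▸ pow_dvd_pow 2 (Nat.sub_le l 1)), hl, Nat.pow_div (Nat.sub_le l 1) two_pos]
      rw [show l - (l - 1) = 1 by omega, pow_one]
    have htI : t ∈ σ.I := ⟨hto, fun u hu => (hyU u hu).pow_left _⟩
    have htz : Commute t σ.z := (commute_of_conj_eq (by
      have e1 : σ.z * y * σ.z⁻¹ = y⁻¹ := by
        rw [hy, involution_inv σ.orderOf_z, ← mul_assoc σ.z, involution_sq σ.orderOf_z, one_mul,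
          mul_inv_rev, involution_inv hv'.1, involution_inv σ.orderOf_z]
      rw [ht, ← conj_pow, e1, inv_pow, ← ht, involution_inv hto])).symm
    have htv : Commute t v' := by
      have e1 : v' = σ.z * y := by rw [hy, ← mul_assoc, involution_sq σ.orderOf_z, one_mul]
      rw [e1]
      exact htz.mul_right ((Commute.refl y).pow_left _)
    exact hv'z (h.I_trans hv' htI h.z_mem_I htv.symm htz)
  -- the conjugate of `U` belonging to `b`
  obtain ⟨k, hk⟩ := isConj_iff.1 (σ.one_class σ.z b σ.orderOf_z (σ.orderOf_s 1))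
  have hx0 : k⁻¹ * x * k ∈ σ.U := σ.mem_U.2 ⟨by
    have := conj_commute (g := k⁻¹) hxb
    rwa [inv_inv, show k⁻¹ * b * k = σ.z by rw [← hk]; group] at this, by
    have e' := orderOf_conj k⁻¹ x
    rw [inv_inv] at e'
    rw [e']; exact hxo⟩
  have hx01 : k⁻¹ * x * k ≠ 1 := fun e => hx1 (by
    calc x = k * (k⁻¹ * x * k) * k⁻¹ := by group
      _ = 1 := by rw [e]; group)
  have hUb : ∀ q ∈ σ.U, ∀ u ∈ σ.U, Commute (k * q * k⁻¹) u := by
    intro q hq u hu
    have h1 : Commute (k⁻¹ * u * k) (k⁻¹ * x * k) := by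
      have := conj_commute (g := k⁻¹) (hxU u hu).symm
      rwa [inv_inv] at this
    have h2 := h.odd_commute (h.cent_le_M hx0 hx01 h1) (by
      have e' := orderOf_conj k⁻¹ u
      rw [inv_inv] at e'
      rw [e']; exact σ.odd_orderOf hu) hq
    have h3 := conj_commute (g := k) h2
    rw [show k * (k⁻¹ * u * k) * k⁻¹ = u by group] at h3
    exact h3.symm
  have hqb : ∀ q ∈ σ.U, Commute (k * q * k⁻¹) b := fun q hq => by
    rw [← hk]; exact conj_commute (σ.mem_U.1 hq).1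
  have hqM : ∀ q ∈ σ.U, k * q * k⁻¹ ∈ σ.M := fun q hq => h.cent_le_M hd hd1 (hUb q hq d hd)
  have hna : ¬ Commute a b := fun hc' => by
    have h' : σ.f (sr 0 * sr 1) = σ.f (sr 1 * sr 0) := by rw [map_mul, map_mul]; exact hc'
    exact absurd (σ.inj h') (by decide)
  have hrig : ∀ q ∈ σ.U, Commute ((k * q * k⁻¹) * σ.z * (k * q * k⁻¹)⁻¹) σ.z → q = 1 := by
    intro q hq hc
    set y := k * q * k⁻¹ with hy
    have hI := h.conj_mem_I (hqM q hq) h.z_mem_I
    have hcb : Commute (y * σ.z * y⁻¹) b := by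
      have := conj_commute (g := y) (σ.commute_s_z 1).symm
      rwa [← hb, conj_eq_of_commute (hqb q hq)] at this
    have hyz : Commute y σ.z := by
      rcases h.cases_of_commute_z hd hd1 (hInv hI) hc with e | e | e <;> rw [e] at hcb
      · exact commute_of_conj_eq e
      · exact absurd hcb hna
      · exact absurd (by
          have := (σ.commute_s_z 1).symm.inv_left.mul_left hcb
          rwa [inv_mul_cancel_left] at this) hna
    have hyU : y ∈ σ.U := σ.mem_U.2 ⟨hyz, by rw [orderOf_conj]; exact σ.odd_orderOf hq⟩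
    have h1 := h.b_inverts hyU
    rw [conj_eq_of_commute (hqb q hq).symm] at h1
    have h2 : y = 1 := eq_one_of_inv_self (σ.odd_orderOf hyU) h1.symm
    rw [hy, conj_eq_one_iff] at h2
    exact h2
  -- the five conjugates of the four-group exhaust `I`
  let V : Type u := {c : G // c ∈ ({σ.z, σ.s 0, σ.z * σ.s 0} : Set G)}
  have hV : Nat.card V = 3 := by
    show Nat.card ↥({σ.z, σ.s 0, σ.z * σ.s 0} : Set G) = 3
    rw [Nat.card_coe_set_eq]
    exact Set.ncard_eq_three.2 ⟨_, _, _, (σ.s_ne_z 0).symm,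
      fun e => involution_ne_one (σ.orderOf_s 0) (mul_eq_left.1 e.symm),
      fun e => involution_ne_one σ.orderOf_z (mul_eq_right.1 e.symm), rfl⟩
  have hVI : ∀ c : V, c.1 ∈ σ.I ∧ Commute c.1 σ.z := by
    rintro ⟨c, hc⟩
    simp only [Set.mem_insert_iff, Set.mem_singleton_iff] at hc
    rcases hc with rfl | rfl | rfl
    · exact ⟨h.z_mem_I, Commute.refl _⟩
    · exact ⟨h.s_zero_mem_I, σ.commute_s_z 0⟩
    · exact ⟨h.za_mem_I, (Commute.refl σ.z).mul_left (σ.commute_s_z 0)⟩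
  let φ : σ.U × V → σ.I := fun qc => ⟨(k * qc.1 * k⁻¹) * qc.2.1 * (k * qc.1 * k⁻¹)⁻¹,
    h.conj_mem_I (hqM _ qc.1.2) (hVI qc.2).1⟩
  have hinj : Function.Injective φ := by
    rintro ⟨⟨q, hq⟩, c⟩ ⟨⟨q', hq'⟩, c'⟩ e
    have e' : (k * q * k⁻¹) * c.1 * (k * q * k⁻¹)⁻¹ = (k * q' * k⁻¹) * c'.1 * (k * q' * k⁻¹)⁻¹ :=
      congrArg Subtype.val e
    have hqq : q'⁻¹ * q ∈ σ.U := mul_mem (inv_mem hq') hq
    set y := k * (q'⁻¹ * q) * k⁻¹ with hy
    have e2 : y * c.1 * y⁻¹ = c'.1 := by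
      calc y * c.1 * y⁻¹ = (k * q' * k⁻¹)⁻¹ * ((k * q * k⁻¹) * c.1 * (k * q * k⁻¹)⁻¹) *
            (k * q' * k⁻¹) := by rw [hy]; group
        _ = c'.1 := by rw [e']; group
    have hyI := h.conj_mem_I (hqM _ hqq) h.z_mem_I
    have hc1 : Commute (y * σ.z * y⁻¹) c'.1 := e2 ▸ conj_commute (hVI c).2.symm
    have h1 := hrig _ hqq (h.I_trans hyI (hVI c').1 h.z_mem_I hc1 (hVI c').2)
    obtain rfl : q' = q := inv_mul_eq_one.1 h1
    exact Prod.ext rfl (Subtype.ext (mul_left_cancel (mul_right_cancel e')))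
  have hle : Nat.card (σ.U × V) ≤ Nat.card σ.I := Nat.card_le_card_of_injective φ hinj
  have hbij : Function.Bijective φ := by
    refine (Nat.bijective_iff_injective_and_card φ).2 ⟨hinj, ?_⟩
    rw [Nat.card_prod, hV, h.natCard_U, h15] at hle ⊢
    have := h.five
    omega
  have hall : ∀ u ∈ σ.I, Commute (b * u * b⁻¹) u := by
    intro u hu
    obtain ⟨⟨⟨q, hq⟩, c⟩, e⟩ := hbij.surjective ⟨u, hu⟩
    set y := k * q * k⁻¹ with hy
    have e' : y * c.1 * y⁻¹ = u := congrArg Subtype.val e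
    set t := y * σ.z * y⁻¹ with ht
    have htI : t ∈ σ.I := h.conj_mem_I (hqM q hq) h.z_mem_I
    have hut : Commute u t := e' ▸ conj_commute (hVI c).2
    have hbt : b * t * b⁻¹ = t := by
      refine conj_eq_of_commute ?_
      have := conj_commute (g := y) (σ.commute_s_z 1)
      rwa [← hb, conj_eq_of_commute (hqb q hq)] at this
    have h1 := conj_commute (g := b) hut
    rw [hbt] at h1
    exact h.I_trans (h.conj_mem_I hbM hu) htI hu h1 hut.symm
  have hwa : ∀ u ∈ σ.I, Commute (w * u * w⁻¹) (a * u * a⁻¹) := by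
    intro u hu
    have h1 := conj_commute (g := a) (hall u hu)
    have e : a * b = w := by
      have := σ.s_mul_w 0
      rw [zero_add, ← ha, ← hb] at this
      rw [← this, ← mul_assoc, ha, involution_sq (σ.orderOf_s 0), one_mul]
    rwa [show a * (b * u * b⁻¹) * a⁻¹ = a * b * u * (a * b)⁻¹ by group, e] at h1
  have hwv : w * v₁ * w⁻¹ ∈ σ.I := h.conj_mem_I hwM hv₁
  have hav : a * v₁ * a⁻¹ ∈ σ.I := h.conj_mem_I haM hv₁
  have h1 := conj_commute (g := w) (hwa v₁ hv₁)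
  rw [hww] at h1
  have h2 := hwa _ hav
  rw [show a * (a * v₁ * a⁻¹) * a⁻¹ = (a * a) * v₁ * (a * a)⁻¹ by group, ha,
    involution_sq (σ.orderOf_s 0), one_mul, inv_one, mul_one, ← ha] at h2
  exact hv₁z (h.I_comm_of_conj h.z_mem_I hv₁ (h.I_trans
    (h.conj_mem_I (h.cz_le_M (Commute.refl _)) hv₁) (h.conj_mem_I hwM hav) hv₁ h1 h2)).symm

end OneSided

end CfsgLib.Recog.SmallCentralizer
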