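import Cfsg.Agent.Lib.Recog.SmallCentralizer.Basic
import Cfsg.Agent.Lib.GW.BlockBounds

/-!
# The order formula of the principal 2-block

For a simple group the number of involutions and the two four-group centralisers satisfy a
Diophantine equation.
-/

set_option autoImplicit false

namespace CfsgLib.Recog.SmallCentralizer

open Subgroup DihedralGroup Cfsg
open CfsgLib.TwoGroups CfsgLib.TwoGroups.Dihedral
open CfsgLib.Blocks CfsgLib.Char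

universe u

variable {G : Type u} [Group G] [Finite G]

namespace Dat

variable (σ : Dat G)

theorem degree_formula (M : Ideal AlgInt) (hM : IsPModular 2 M) :
    ∃ Y : ℤ, Y ≠ 1 ∧ Y ≠ 0 ∧ (4 : ℤ) ∣ Y - 1 ∧
      (σ.idx : ℤ) * (Y - 1) ^ 2 = 8 * Y * (Y + 1) * ((σ.o 0 : ℤ) + σ.o 1) ^ 2 := by
  classical
  have : NeZero (2 ^ 2) := ⟨by norm_num⟩
  have := Fintype.ofFinite G
  have hz : σ.f (r 1) ^ (2 ^ (3 - 2)) = σ.z := by
    rw [show (2 : ℕ) ^ (3 - 2) = 2 from rfl, pow_two]; exact σ.w_mul_w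
  have hσo : orderOf (σ.f (r 1)) = 2 ^ (3 - 1) := σ.orderOf_w
  have hτo : orderOf (σ.f (sr 0)) = 2 := σ.orderOf_s 0
  have hmem : ∀ p, σ.f p ∈ (σ.S : Subgroup G) := fun p => σ.range ▸ ⟨p, rfl⟩
  have hgen : closure ({σ.f (r 1), σ.f (sr 0)} : Set G) = (σ.S : Subgroup G) := by
    refine le_antisymm ((closure_le _).2 ?_) ?_
    · rintro x (rfl | rfl) <;> exact hmem _
    · rw [← σ.range]
      rintro _ ⟨p, rfl⟩
      have hp : ∀ p : DihedralGroup (2 ^ 2), ∃ k : Fin 4, p = r 1 ^ (k : ℕ) ∨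
          p = sr 0 * r 1 ^ (k : ℕ) := by decide
      obtain ⟨k, rfl | rfl⟩ := hp p
      · rw [map_pow]; exact pow_mem (subset_closure (by simp)) _
      · rw [map_mul, map_pow]
        exact mul_mem (subset_closure (by simp)) (pow_mem (subset_closure (by simp)) _)
  have hrel : σ.f (sr 0) * σ.f (r 1) * (σ.f (sr 0))⁻¹ = (σ.f (r 1))⁻¹ := by
    rw [← map_inv, ← map_inv, ← map_mul, ← map_mul]
    congr 1
  have hs3 : σ.f (r 1) * σ.f (sr 0) = σ.s (1 + 2) := by rw [← map_mul]; rfl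
  have hconj : IsConj (σ.f (r 1) ^ (2 ^ (3 - 2))) (σ.f (sr 0)) ∧
      IsConj (σ.f (r 1) ^ (2 ^ (3 - 2))) (σ.f (r 1) * σ.f (sr 0)) := by
    rw [hz, hs3]
    exact ⟨σ.one_class _ _ σ.orderOf_z hτo, σ.one_class _ _ σ.orderOf_z (σ.orderOf_s _)⟩
  obtain ⟨-, χ₁, χ₂, χ₃, χ', δ₁, δ₂, δ₃, hδ₁, -, -, -, h1, -, -, -, -, -, -, hB, hval, -⟩ :=
    Cfsg.Agent.S4481.result (G := G) M hM 3 (by omega) σ.S
      ⟨sylowEquiv σ.inj σ.range⟩ (σ.f (r 1)) (hmem _) hσo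
      (Complex.exp (2 * Real.pi * Complex.I / ((2 ^ (3 - 1) : ℕ) : ℂ)))
      (Complex.isPrimitiveRoot_exp _ (pow_ne_zero _ two_ne_zero))
  have hχB : χ₁ ∈ principalBlock M G := by rw [hB]; exact Or.inr (Or.inl rfl)
  have hv : ∀ l : ℕ, 0 < l → l < 2 ^ (3 - 1) → (χ₁ : G → ℂ) (σ.f (r 1) ^ l) = δ₁ :=
    fun l h h' => (hval l h h').1
  obtain ⟨hne, hform⟩ := Cfsg.Agent.S4482.result M hM 3 le_rfl σ.S (σ.f (r 1)) (σ.f (sr 0))
    (hmem _) (hmem _) hσo hτo hrel hgen hconj χ₁ hχB h1 δ₁ hδ₁ hv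
  rw [hz, hs3, show σ.f (sr 0) = σ.s 0 from rfl, σ.natCard_pair, σ.pair_add_two, σ.natCard_pair,
    σ.natCard_cent, σ.natCard_U, σ.natCard_G] at hform
  have hd : (4 : ℤ) ∣ (charDegree (χ₁ : G → ℂ) : ℤ) - δ₁ := by
    refine CfsgLib.GW.four_dvd_of_constant (zpowers (σ.f (r 1))) ?_ χ₁ fun h hh h1 => ?_
    · rw [Nat.card_zpowers, hσo]; norm_num
    · rw [← mem_powers_iff_mem_zpowers] at hh
      obtain ⟨l, rfl⟩ := hh
      have h2 := pow_mod_orderOf (σ.f (r 1)) l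
      rw [hσo] at h2
      simp only at h1 ⊢
      rw [← h2] at h1 ⊢
      exact hv _ (Nat.pos_of_ne_zero fun e => h1 (by rw [e, pow_zero])) (Nat.mod_lt _ (by norm_num))
  set x : ℕ := charDegree (χ₁ : G → ℂ) with hx
  have hx0 : 0 < x := charDegree_pos χ₁
  have hp0 : (σ.o 0 : ℚ) ≠ 0 := Nat.cast_ne_zero.2 (σ.o_pos 0).ne'
  have hp1 : (σ.o 1 : ℚ) ≠ 0 := Nat.cast_ne_zero.2 (σ.o_pos 1).ne'
  refine ⟨δ₁ * x, ?_, ?_, ?_, ?_⟩
  · rcases hδ₁ with rfl | rfl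
    · simpa using hne
    · intro e; omega
  · rcases hδ₁ with rfl | rfl <;> omega
  · rcases hδ₁ with rfl | rfl
    · simpa using hd
    · obtain ⟨k, hk⟩ := hd
      exact ⟨-k, by omega⟩
  · suffices h : (σ.idx : ℚ) * ((δ₁ : ℚ) * x - 1) ^ 2 =
        8 * ((δ₁ : ℚ) * x) * ((δ₁ : ℚ) * x + 1) * ((σ.o 0 : ℚ) + σ.o 1) ^ 2 by
      exact_mod_cast h
    push_cast at hform
    field_simp at hform
    rcases hδ₁ with rfl | rfl <;> push_cast at hform ⊢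
    · linear_combination hform / 16
    · linear_combination hform / 16

/-- The arithmetical content of the order formula. -/
theorem exists_t [IsSimpleGroup G] :
    ∃ t : ℕ, σ.idx + (σ.o 0 + σ.o 1) ^ 2 = t ^ 2 ∧ 2 * (σ.o 0 + σ.o 1) ≤ t ∧
      2 * t ≤ 7 * (σ.o 0 + σ.o 1) ∧
      ((t : ℤ) - 3 * ((σ.o 0 + σ.o 1 : ℕ) : ℤ)) ∣ 4 * ((σ.o 0 + σ.o 1 : ℕ) : ℤ) := by
  obtain ⟨M, hM⟩ : ∃ M : Ideal AlgInt, IsPModular 2 M :=
    CfsgLib.ZStar.exists_isPModular Nat.prime_two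
  obtain ⟨Y, hY1, hY0, hY4, hY⟩ := σ.degree_formula M hM
  have hi : Odd σ.idx := σ.odd_idx
  have hs : Even (σ.o 0 + σ.o 1) := (σ.odd_o 0).add_odd (σ.odd_o 1)
  rw [← Nat.cast_add] at hY
  set s : ℕ := σ.o 0 + σ.o 1 with hs'
  have hspos : 0 < s := by have := σ.o_pos 0; omega
  set i : ℕ := σ.idx with hi'
  have hsq : ((i : ℤ) + (s : ℤ) ^ 2) * (Y - 1) ^ 2 = ((s : ℤ) * (3 * Y + 1)) ^ 2 := by
    linear_combination hY
  obtain ⟨t, ht⟩ : (Y - 1) ∣ (s : ℤ) * (3 * Y + 1) :=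
    (Int.pow_dvd_pow_iff two_ne_zero).1 (Dvd.intro_left _ hsq)
  have ht2 : (i : ℤ) + (s : ℤ) ^ 2 = t ^ 2 := by
    refine mul_right_cancel₀ (pow_ne_zero 2 (sub_ne_zero.2 hY1)) ?_
    rw [hsq, ht]; ring
  have hsp : (0 : ℤ) < s := by exact_mod_cast hspos
  obtain ⟨k, hk⟩ := hY4
  have hk1 : Y = 4 * k + 1 := by omega
  have hne5 : Y ≠ 5 := by
    intro e
    obtain ⟨m, hm⟩ := hs
    obtain ⟨l, hl⟩ := hi
    have h4 : t = 4 * (s : ℤ) := by rw [e] at ht; linarith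
    rw [h4, hl, hm] at ht2
    have h5 : (2 : ℤ) * (30 * (m : ℤ) ^ 2 - l) = 1 := by push_cast at ht2; linarith
    exact absurd ⟨_, h5.symm⟩ (by norm_num : ¬ (2 : ℤ) ∣ 1)
  have hcase : 9 ≤ Y ∨ Y ≤ -3 := by omega
  have hlo : 2 * (s : ℤ) ≤ t ∧ 2 * t ≤ 7 * s := by
    rcases hcase with h | h
    · have hpos : (0 : ℤ) < Y - 1 := by linarith
      constructor
      · refine le_of_mul_le_mul_left ?_ hpos
        rw [← ht]; nlinarith
      · refine le_of_mul_le_mul_left ?_ hpos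
        nlinarith
    · have hneg : (0 : ℤ) < 1 - Y := by linarith
      constructor
      · refine le_of_mul_le_mul_left ?_ hneg
        nlinarith
      · refine le_of_mul_le_mul_left ?_ hneg
        nlinarith
  have htn : ((t.toNat : ℕ) : ℤ) = t := Int.toNat_of_nonneg (by linarith [hlo.1])
  refine ⟨t.toNat, ?_, ?_, ?_, ?_⟩
  · have : ((i + s ^ 2 : ℕ) : ℤ) = ((t.toNat ^ 2 : ℕ) : ℤ) := by
      push_cast; rw [htn]; exact ht2
    exact_mod_cast this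
  · have : ((2 * s : ℕ) : ℤ) ≤ ((t.toNat : ℕ) : ℤ) := by rw [htn]; push_cast; exact hlo.1
    exact_mod_cast this
  · have : ((2 * t.toNat : ℕ) : ℤ) ≤ ((7 * s : ℕ) : ℤ) := by push_cast; rw [htn]; exact hlo.2
    exact_mod_cast this
  · rw [htn]
    exact ⟨Y - 1, by linear_combination ht⟩

end Dat

end CfsgLib.Recog.SmallCentralizer
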