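import Cfsg.Agent.Lib.Transfer.Conj
import Cfsg.Agent.Lib.ZStar.Main
import Mathlib.GroupTheory.Transfer
import Mathlib.GroupTheory.IndexNormal

/-!
# Two fusion facts for simple groups

An element of 2-power order whose proper powers fuse only into a maximal subgroup `Q` of a Sylow
2-subgroup has itself a conjugate in `Q`; a Sylow 2-subgroup has more than one involution.
-/

set_option autoImplicit false

namespace CfsgLib.Recog.SmallCentralizer

open Subgroup
open scoped IsMulCommutative

universe u

variable {G : Type u} [Group G] [Finite G]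

theorem exists_conj_mem_of_transfer (P : Sylow 2 G) (Q : Subgroup G)
    (hQi : Q.relIndex (P : Subgroup G) = 2) {u : G} {k : ℕ} (hu : u ^ 2 ^ k = 1)
    (heven : ∀ (g : G) (m : ℕ), 2 ∣ m → g * u ^ m * g⁻¹ ∈ (P : Subgroup G) → g * u ^ m * g⁻¹ ∈ Q)
    (hno : ∀ M : Subgroup G, M.index ≠ 2) : ∃ g : G, g * u * g⁻¹ ∈ Q := by
  classical
  by_contra hconj
  push Not at hconj
  have : (Q.subgroupOf (P : Subgroup G)).Normal := Subgroup.normal_of_index_eq_two hQi
  have hcard : Nat.card ((P : Subgroup G) ⧸ Q.subgroupOf (P : Subgroup G)) = 2 := by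
    rw [← index_eq_card]; exact hQi
  let _ : CommGroup ((P : Subgroup G) ⧸ Q.subgroupOf (P : Subgroup G)) :=
    haveI := isCyclic_of_prime_card hcard
    IsCyclic.commGroup
  set ϕ := QuotientGroup.mk' (Q.subgroupOf (P : Subgroup G))
  obtain ⟨c, hc, hcu⟩ : ∃ c : (P : Subgroup G) ⧸ Q.subgroupOf (P : Subgroup G), c ≠ 1 ∧
      ∀ d, d ≠ 1 → d = c := by
    obtain ⟨a, b, hab, huniv⟩ := Nat.card_eq_two_iff.mp hcard
    have hall : ∀ d, d = a ∨ d = b := fun d => by
      have hd : d ∈ ({a, b} : Set _) := huniv ▸ Set.mem_univ d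
      simpa using hd
    rcases hall 1 with h | h
    · exact ⟨b, fun h' => hab (h.symm.trans h'.symm), fun d hd => (hall d).resolve_left fun hda => hd (hda.trans h.symm)⟩
    · exact ⟨a, fun h' => hab (h'.trans h), fun d hd => (hall d).resolve_right fun hdb => hd (hdb.trans h.symm)⟩
  have hc2 : c ^ 2 = 1 := by
    have h := pow_card_eq_one' (x := c)
    rwa [hcard] at h
  have : Fintype (Quotient (MulAction.orbitRel (zpowers u) (G ⧸ (P : Subgroup G)))) :=
    Fintype.ofFinite _
  have key : MonoidHom.transfer ϕ u = c ^ (P : Subgroup G).index := by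
    rw [MonoidHom.transfer_eq_prod_quotient_orbitRel_zpowers_quot,
      index_eq_sum_minimalPeriod (P : Subgroup G) u, ← Finset.prod_pow_eq_pow_sum]
    refine Finset.prod_congr rfl fun q _ => ?_
    have hdvd : Function.minimalPeriod (u • ·) q.out ∣ 2 ^ k := by
      refine Function.IsPeriodicPt.minimalPeriod_dvd ?_
      show (fun x => u • x)^[2 ^ k] q.out = q.out
      rw [smul_iterate, hu]
      exact one_smul _ _
    obtain ⟨j, -, hj⟩ := (Nat.dvd_prime_pow Nat.prime_two).mp hdvd
    rcases j with _ | j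
    · rw [pow_zero] at hj
      conv_rhs => rw [hj, pow_one]
      refine hcu _ fun h1 => hconj q.out.out⁻¹ ?_
      have h2 := mem_subgroupOf.mp ((QuotientGroup.eq_one_iff _).mp h1)
      rw [inv_inv]
      simpa [hj] using h2
    · have h2d : 2 ∣ Function.minimalPeriod (u • ·) q.out := hj ▸ dvd_pow_self 2 (Nat.succ_ne_zero j)
      obtain ⟨l, hl⟩ := h2d
      conv_rhs => rw [hl, pow_mul, hc2, one_pow]
      refine (QuotientGroup.eq_one_iff _).mpr (mem_subgroupOf.mpr ?_)
      have hP : q.out.out⁻¹ * u ^ Function.minimalPeriod (u • ·) q.out * q.out.out ∈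
          (P : Subgroup G) :=
        QuotientGroup.out_conj_pow_minimalPeriod_mem (P : Subgroup G) u q.out
      have h := heven q.out.out⁻¹ _ ⟨l, hl⟩ (by rwa [inv_inv])
      rwa [inv_inv] at h
  have hodd : (P : Subgroup G).index % 2 = 1 := by
    have := P.not_dvd_index
    omega
  have hTu : MonoidHom.transfer ϕ u ≠ 1 := by
    rw [key, ← Nat.div_add_mod (P : Subgroup G).index 2, hodd, pow_add, pow_mul, hc2, one_pow,
      one_mul, pow_one]
    exact hc
  refine hno (MonoidHom.transfer ϕ).ker ?_
  rw [index_ker]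
  rcases (Nat.dvd_prime Nat.prime_two).mp
    (hcard ▸ card_subgroup_dvd_card (MonoidHom.transfer ϕ).range) with h | h
  · exfalso
    have h' := card_eq_one.mp h
    rw [MonoidHom.range_eq_bot_iff] at h'
    exact hTu (by rw [h']; rfl)
  · exact h

/-- In a nonabelian simple group a Sylow 2-subgroup has more than one involution. -/
theorem false_of_unique_involution [IsSimpleGroup G] (hna : ¬ IsMulCommutative G) (S : Sylow 2 G)
    {z : G} (hz : orderOf z = 2) (hzS : z ∈ (S : Subgroup G))
    (huniq : ∀ x ∈ (S : Subgroup G), orderOf x = 2 → x = z) : False := by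
  have hc := CfsgLib.ZStar.mem_oddCore_of_sylow S hz hzS fun g hg =>
    huniq _ hg (by rw [CfsgLib.Signalizer.orderOf_conj, hz])
  rcases (IsSimpleGroup.eq_bot_or_eq_top_of_normal (Cfsg.oddCore G) inferInstance) with hO | hO
  · have hzc : z ∈ Subgroup.center G := Subgroup.mem_center_iff.2 fun g => by
      have h := hc g
      rw [hO, Subgroup.mem_bot, mul_inv_eq_one, mul_inv_eq_iff_eq_mul] at h
      exact h.symm
    rcases (IsSimpleGroup.eq_bot_or_eq_top_of_normal (Subgroup.center G) inferInstance) with h | h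
    · rw [h, Subgroup.mem_bot] at hzc
      exact CfsgLib.Signalizer.involution_ne_one hz hzc
    · exact hna ⟨⟨fun a b => Subgroup.mem_center_iff.1 (h ▸ Subgroup.mem_top b) a⟩⟩
  · have h := CfsgLib.ZStar.odd_card_oddCore G
    rw [hO, Subgroup.card_top] at h
    have h2 : orderOf z ∣ Nat.card G := orderOf_dvd_natCard z
    rw [hz] at h2
    exact Nat.not_even_iff_odd.2 h (even_iff_two_dvd.2 h2)

omit [Finite G] in
theorem index_ne_two [IsSimpleGroup G] (hna : ¬ IsMulCommutative G) (M : Subgroup G) :
    M.index ≠ 2 := by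
  intro hM
  have := Subgroup.normal_of_index_eq_two hM
  rcases IsSimpleGroup.eq_bot_or_eq_top_of_normal M inferInstance with rfl | rfl
  · rw [Subgroup.index_bot] at hM
    have := isCyclic_of_prime_card hM
    exact hna this.isMulCommutative
  · rw [Subgroup.index_top] at hM
    omega

end CfsgLib.Recog.SmallCentralizer
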