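import Cfsg.Agent.Lib.Recog.SmallCentralizer.Basic
import Cfsg.Agent.Lib.Recog.SmallCentralizer.Transfer
import Cfsg.Agent.Lib.GW.BlockBounds
import Cfsg.Agent.Lib.Transfer.MaximalClass
import Cfsg.Agent.Lib.TwoGroups.Recognition
import Cfsg.Agent.Lib.Core.Coprime
import Cfsg.Agent.Lib.Perm.SimpleOrders.GapRange

/-!
# Simple groups with a centraliser of order four

Either the group has order 60 or its Sylow 2-subgroup is dihedral of order eight with the element
of order four self-centralising.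
-/

set_option autoImplicit false
set_option linter.deprecated false

namespace CfsgLib.Recog.SmallCentralizer

open Subgroup DihedralGroup Cfsg
open CfsgLib.TwoGroups CfsgLib.TwoGroups.Dihedral
open CfsgLib.Signalizer (involution_sq involution_inv involution_ne_one orderOf_eq_two_of orderOf_conj)

universe u

theorem natCard_centralizer_conj {G : Type u} [Group G] [Finite G] {x y : G} (h : IsConj x y) :
    Nat.card (centralizer ({x} : Set G)) = Nat.card (centralizer ({y} : Set G)) := by
  obtain ⟨g, rfl⟩ := isConj_iff.1 h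
  rw [← natCard_map_conj g (centralizer ({x} : Set G))]
  congr 1
  refine congrArg (fun K : Subgroup G => (K : Type u)) ?_
  ext a
  rw [mem_map_conj, mem_centralizer_singleton_iff, mem_centralizer_singleton_iff]
  constructor
  · intro ha
    calc a * (g * x * g⁻¹) = g * (g⁻¹ * a * g * x) * g⁻¹ := by group
      _ = _ := by rw [ha]; group
  · intro ha
    calc g⁻¹ * a * g * x = g⁻¹ * (a * (g * x * g⁻¹)) * g := by group
      _ = _ := by rw [ha]; group

variable {G : Type u} [Group G] [Finite G] [IsSimpleGroup G]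

/-- A Sylow 2-subgroup of order four gives order 60. -/
theorem order_sixty (hna : ¬ IsMulCommutative G) (S : Sylow 2 G) {w : G}
    (hS : (S : Subgroup G) = centralizer ({w} : Set G)) (h4 : Nat.card (S : Subgroup G) = 4) :
    Nat.card G = 60 := by
  classical
  have : Fact (Nat.Prime 2) := ⟨Nat.prime_two⟩
  have hwS : w ∈ (S : Subgroup G) := hS ▸ mem_centralizer_singleton_iff.2 rfl
  have hcomm : ∀ x ∈ (S : Subgroup G), ∀ y ∈ (S : Subgroup G), x * y = y * x := by
    intro x hx y hy
    exact congrArg Subtype.val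
      (IsPGroup.commutative_of_card_eq_prime_sq (p := 2) (G := (S : Subgroup G))
        (by rw [h4]; norm_num) ⟨x, hx⟩ ⟨y, hy⟩)
  have hsq : ∀ x ∈ (S : Subgroup G), x * x = 1 := by
    intro x hx
    by_contra hne
    have ho : orderOf (⟨x, hx⟩ : (S : Subgroup G)) = 4 := by
      obtain ⟨j, hj, e⟩ := (Nat.dvd_prime_pow Nat.prime_two).1
        (show orderOf (⟨x, hx⟩ : (S : Subgroup G)) ∣ 2 ^ 2 by
          have := orderOf_dvd_natCard (⟨x, hx⟩ : (S : Subgroup G))
          rwa [h4] at this)
      interval_cases j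
      · exact absurd (congrArg Subtype.val (orderOf_eq_one_iff.1 e)) (fun e1 => hne (by
          simp only [OneMemClass.coe_one] at e1; rw [e1, one_mul]))
      · have := pow_orderOf_eq_one (⟨x, hx⟩ : (S : Subgroup G))
        rw [e, pow_one, pow_two] at this
        exact absurd (congrArg Subtype.val this) hne
      · simpa using e
    rw [Subgroup.orderOf_mk] at ho
    have hz : orderOf (x ^ 2) = 2 := by rw [orderOf_pow_of_dvd two_ne_zero (by rw [ho]; norm_num), ho]
    refine false_of_unique_involution hna S hz (pow_mem hx 2) fun y hy hy2 => ?_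
    have hz' : zpowers (⟨x, hx⟩ : (S : Subgroup G)) = ⊤ :=
      eq_top_of_card_eq _ (by rw [Nat.card_zpowers, Subgroup.orderOf_mk, ho, h4])
    have hy' : (⟨y, hy⟩ : (S : Subgroup G)) ∈ zpowers (⟨x, hx⟩ : (S : Subgroup G)) :=
      hz' ▸ mem_top _
    obtain ⟨i, hi⟩ := mem_powers_iff_mem_zpowers.2 hy'
    have hi' : x ^ i = y := congrArg Subtype.val hi
    have hi4 : x ^ i = x ^ (i % 4) := by rw [← ho, pow_mod_orderOf]
    have hlt : i % 4 < 4 := Nat.mod_lt _ (by norm_num)
    rw [hi'] at hi4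
    interval_cases hi0 : i % 4
    · rw [hi4, pow_zero, orderOf_one] at hy2; omega
    · rw [hi4, pow_one, ho] at hy2; omega
    · exact hi4
    · rw [hi4, Nat.Coprime.orderOf_pow (by rw [ho]; norm_num), ho] at hy2; omega
  obtain ⟨z, hz, hz1⟩ : ∃ z ∈ (S : Subgroup G), z ≠ 1 := by
    have : Nontrivial (S : Subgroup G) := Finite.one_lt_card_iff_nontrivial.1 (by omega)
    obtain ⟨⟨z, hz⟩, hne⟩ := exists_ne (1 : (S : Subgroup G))
    exact ⟨z, hz, fun e => hne (Subtype.ext e)⟩
  have hzo := orderOf_eq_two_of hz1 (hsq z hz)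
  obtain ⟨t, ht, htz⟩ : ∃ t ∈ (S : Subgroup G), t ∉ zpowers z := by
    by_contra hno
    push Not at hno
    have := card_dvd_of_le (show (S : Subgroup G) ≤ zpowers z from hno)
    rw [h4, Nat.card_zpowers, hzo] at this
    exact absurd this (by norm_num)
  obtain ⟨e⟩ := nonempty_mulEquiv_dihedralGroup (H := (S : Subgroup G)) (n := 2 ^ 1)
    (a := ⟨z, hz⟩) (b := ⟨t, ht⟩) (by rw [Subgroup.orderOf_mk, hzo, pow_one]) (Subtype.ext (hsq t ht))
    (fun h => by
      obtain ⟨i, hi⟩ := mem_zpowers_iff.1 h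
      exact htz ⟨i, congrArg Subtype.val hi⟩)
    (Subtype.ext (by
      show t * z * t⁻¹ = z⁻¹
      rw [hcomm t ht z hz, mul_inv_cancel_right, involution_inv hzo]))
    (by rw [h4]; norm_num)
  set f : DihedralGroup (2 ^ 1) →* G := (S : Subgroup G).subtype.comp e.symm.toMonoidHom with hf
  have hinj : Function.Injective f := (S : Subgroup G).subtype_injective.comp e.symm.injective
  have hrange : f.range = (S : Subgroup G) := by
    rw [hf, MonoidHom.range_comp, MonoidHom.range_eq_top.2 e.symm.surjective,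
      ← MonoidHom.range_eq_map, Subgroup.range_subtype]
  have hone := all_conj_of_no_index_two hinj hrange le_rfl (index_ne_two hna)
  obtain ⟨M, hM⟩ : ∃ M : Ideal AlgInt, IsPModular 2 M :=
    CfsgLib.ZStar.exists_isPModular Nat.prime_two
  obtain ⟨α, hα, -, hhi⟩ := CfsgLib.GW.klein_bounds_all hinj hrange rfl hone M hM
  have hw1 : w ≠ 1 := by
    intro e
    refine hna ⟨⟨fun a b => hcomm a ?_ b ?_⟩⟩ <;>
      (rw [hS, e]; exact mem_centralizer_singleton_iff.2 (by simp))
  have hwo := orderOf_eq_two_of hw1 (hsq w hwS)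
  have c1 : Nat.card (centralizer ({f (r (half 1))} : Set G)) = 4 := by
    rw [← natCard_centralizer_conj (hone w _ hwo (orderOf_half hinj le_rfl)), ← hS, h4]
  have c2 : Nat.card (centralizer ((S : Subgroup G) : Set G)) = 4 := by
    rw [← h4]
    congr 1
    refine congrArg (fun K : Subgroup G => (K : Type u)) (le_antisymm (fun a ha => ?_) fun a ha => ?_)
    · rw [hS]
      exact mem_centralizer_singleton_iff.2 (mem_centralizer_iff.1 ha w hwS).symm
    · exact mem_centralizer_iff.2 fun b hb => hcomm b hb a ha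
  rw [c1, c2] at hα
  have h60 : Nat.card G ≤ 60 := by
    have : (Nat.card G : ℚ) ≤ 60 := by rw [hα]; push_cast; linarith
    exact_mod_cast this
  have := CfsgLib.Perm.SimpleOrders.orders_lt_six_thousand hna (by omega)
  simp only [List.mem_cons, List.not_mem_nil, or_false] at this
  omega

/-- A Sylow 2-subgroup of order at least eight is dihedral of order eight. -/
theorem dihedral_eight (hna : ¬ IsMulCommutative G) (S : Sylow 2 G) {w : G} {n : ℕ}
    (hwS : centralizer ({w} : Set G) ≤ (S : Subgroup G))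
    (h4 : Nat.card (centralizer ({w} : Set G)) = 4) (hn : 3 ≤ n)
    (hcard : Nat.card (S : Subgroup G) = 2 ^ n) : Nonempty (Dat G) := by
  classical
  have : Fact (Nat.Prime 2) := ⟨Nat.prime_two⟩
  set C := centralizer ({w} : Set G) with hC
  have hwC : w ∈ C := mem_centralizer_singleton_iff.2 rfl
  have hCcomm : ∀ x ∈ C, ∀ y ∈ C, x * y = y * x := fun x hx y hy =>
    congrArg Subtype.val (IsPGroup.commutative_of_card_eq_prime_sq (p := 2) (G := C)
      (by rw [h4]; norm_num) ⟨x, hx⟩ ⟨y, hy⟩)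
  set A := C.subgroupOf (S : Subgroup G) with hA
  have hAc : Nat.card A = 2 ^ 2 := by
    rw [hA, Nat.card_congr (subgroupOfEquivOfLe hwS).toEquiv, h4]; norm_num
  have hAA : centralizer (A : Set (S : Subgroup G)) = A := by
    refine le_antisymm (fun x hx => ?_) fun x hx => mem_centralizer_iff.2 fun y hy => ?_
    · exact mem_subgroupOf.2 (mem_centralizer_singleton_iff.2
        (congrArg Subtype.val (mem_centralizer_iff.1 hx ⟨w, hwS hwC⟩ (mem_subgroupOf.2 hwC))).symm)
    · exact Subtype.ext (hCcomm _ (mem_subgroupOf.1 hy) _ (mem_subgroupOf.1 hx))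
  have hcl := CfsgLib.Transfer.class_eq_of_self_centralizing n (S : Subgroup G) hcard A hAc hAA
  obtain ⟨⟨a, ha⟩, ⟨b, hb⟩, hao, hba, hconj, hb2⟩ := CfsgLib.Transfer.shape_of_class hn hcard hcl
  have hall := CfsgLib.Transfer.exists_pow_or (by omega) hcard hao hba
  have hcen := CfsgLib.Transfer.center_eq hn hcard hao hba hconj
  have hao' : orderOf a = 2 ^ (n - 1) := by rw [← hao, Subgroup.orderOf_mk]
  set z := a ^ 2 ^ (n - 2) with hz
  have hzo : orderOf z = 2 := by
    rw [hz, orderOf_pow_of_dvd (pow_ne_zero _ two_ne_zero)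
      (hao' ▸ pow_dvd_pow 2 (by omega)), hao', Nat.pow_div (by omega) two_pos,
      show n - 1 - (n - 2) = 1 by omega, pow_one]
  have hzS : z ∈ (S : Subgroup G) := pow_mem ha _
  have hzc : ∀ x ∈ (S : Subgroup G), z * x = x * z := fun x hx => by
    have h : (⟨a, ha⟩ : (S : Subgroup G)) ^ 2 ^ (n - 2) ∈ center (S : Subgroup G) :=
      hcen.symm ▸ mem_zpowers _
    exact (congrArg Subtype.val (mem_center_iff.1 h ⟨x, hx⟩)).symm
  have hcent8 : 8 ≤ Nat.card (centralizer ({z} : Set G)) := by
    refine le_trans ?_ (Nat.le_of_dvd Nat.card_pos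
      (card_dvd_of_le (show (S : Subgroup G) ≤ centralizer ({z} : Set G) from
        fun x hx => mem_centralizer_singleton_iff.2 (hzc x hx).symm)))
    rw [hcard]
    calc 8 = 2 ^ 3 := by norm_num
      _ ≤ 2 ^ n := Nat.pow_le_pow_right two_pos hn
  have hwz : ∀ g : G, g * w * g⁻¹ ≠ z := by
    intro g e
    have h := natCard_centralizer_conj (isConj_iff.2 ⟨g, e⟩ : IsConj w z)
    rw [← hC, h4] at h
    omega
  have hall' : ∀ x ∈ (S : Subgroup G), ∃ i : ℕ, x = a ^ i ∨ x = b * a ^ i := by
    intro x hx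
    obtain ⟨i, h | h⟩ := hall ⟨x, hx⟩
    · exact ⟨i, Or.inl (congrArg Subtype.val h)⟩
    · exact ⟨i, Or.inr (congrArg Subtype.val h)⟩
  have hba' : b ∉ zpowers a := fun h => hba (by
    obtain ⟨i, hi⟩ := mem_zpowers_iff.1 h
    exact ⟨i, Subtype.ext hi⟩)
  have hconj' : b * a * b⁻¹ = a⁻¹ ∨ 4 ≤ n ∧ b * a * b⁻¹ = z * a⁻¹ :=
    hconj.imp (fun h => congrArg Subtype.val h) fun h => ⟨h.1, congrArg Subtype.val h.2⟩
  have hb2' : b ^ 2 = 1 ∨ b ^ 2 = z :=
    hb2.imp (fun h => congrArg Subtype.val h) fun h => congrArg Subtype.val h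
  have hzinv : z⁻¹ = z := involution_inv hzo
  have hinvA : ∀ i : ℕ, orderOf (a ^ i) = 2 → a ^ i = z := by
    intro i hi
    have h1 : a ^ (2 * i) = 1 := by
      rw [mul_comm, pow_mul, pow_two]; exact involution_sq hi
    have h2 := orderOf_dvd_of_pow_eq_one h1
    rw [hao', show n - 1 = n - 2 + 1 by omega, pow_succ'] at h2
    obtain ⟨j, rfl⟩ := Nat.dvd_of_mul_dvd_mul_left two_pos h2
    rw [pow_mul, ← hz] at hi ⊢
    rcases Nat.even_or_odd' j with ⟨l, rfl | rfl⟩
    · rw [pow_mul, pow_two, involution_sq hzo, one_pow, orderOf_one] at hi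
      omega
    · rw [pow_succ, pow_mul, pow_two, involution_sq hzo, one_pow, one_mul]
  -- powers of `a` centralising `w` bound `n`
  have hcentA : ∀ g : G, g * w * g⁻¹ ∈ zpowers a → n = 3 := by
    intro g hg
    have hle : zpowers a ≤ centralizer ({g * w * g⁻¹} : Set G) := by
      refine zpowers_le.2 (mem_centralizer_singleton_iff.2 ?_)
      obtain ⟨i, hi⟩ := mem_zpowers_iff.1 hg
      rw [← hi]
      exact ((Commute.refl a).zpow_right i).eq
    have h := Nat.le_of_dvd Nat.card_pos (card_dvd_of_le hle)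
    rw [Nat.card_zpowers, hao',
      ← natCard_centralizer_conj (isConj_iff.2 ⟨g, rfl⟩ : IsConj w (g * w * g⁻¹)), ← hC, h4] at h
    by_contra hne
    have h' := Nat.pow_le_pow_right (n := 2) two_pos (show 3 ≤ n - 1 by omega)
    omega
  have hw4 : w ^ 4 = 1 := by
    have h1 : (⟨w, hwC⟩ : C) ^ 4 = 1 := h4 ▸ pow_card_eq_one'
    exact congrArg Subtype.val h1
  have hw1 : w ≠ 1 := fun e => hwz 1 (by
    have htop : C = ⊤ := eq_top_iff.2 fun x _ => mem_centralizer_singleton_iff.2 (by simp [e])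
    have h := Nat.le_of_dvd Nat.card_pos (card_dvd_of_le (le_top : centralizer ({z} : Set G) ≤ ⊤))
    rw [Subgroup.card_top, ← Subgroup.card_top (G := G), ← htop, h4] at h
    omega)
  have hQi : (zpowers a).relIndex (S : Subgroup G) = 2 := by
    have e : (zpowers a).subgroupOf (S : Subgroup G) = zpowers (⟨a, ha⟩ : (S : Subgroup G)) := by
      ext x
      rw [mem_subgroupOf]
      constructor
      · intro h
        obtain ⟨i, hi⟩ := mem_zpowers_iff.1 h
        exact ⟨i, Subtype.ext hi⟩
      · rintro ⟨i, rfl⟩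
        exact ⟨i, rfl⟩
    show ((zpowers a).subgroupOf (S : Subgroup G)).index = 2
    rw [e]
    exact CfsgLib.Transfer.index_zpowers_two (by omega) hcard hao
  -- `w` has order four
  have hw2 : w * w ≠ 1 := by
    intro h
    have hwo := orderOf_eq_two_of hw1 h
    obtain ⟨g, hg⟩ := exists_conj_mem_of_transfer S (zpowers a) hQi (u := w) (k := 1)
      (by rw [pow_one, pow_two, h]) (fun g m hm _ => by
        obtain ⟨l, rfl⟩ := hm
        rw [pow_mul, pow_two, h, one_pow, mul_one, mul_inv_cancel]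
        exact one_mem _) (index_ne_two hna)
    obtain ⟨i, hi⟩ := mem_powers_iff_mem_zpowers.2 hg
    exact hwz g (hi.symm.trans (hinvA i (by
      rw [show a ^ i = g * w * g⁻¹ from hi, orderOf_conj]; exact hwo)))
  have hsqb : ∀ i : ℕ, b * a * b⁻¹ = a⁻¹ → (b * a ^ i) * (b * a ^ i) = b ^ 2 := by
    intro i h
    have h' : b * a ^ i * b⁻¹ = (a ^ i)⁻¹ := by rw [← conj_pow, h, inv_pow]
    calc (b * a ^ i) * (b * a ^ i) = (b * a ^ i * b⁻¹) * (b ^ 2 * a ^ i) := by rw [pow_two]; group
      _ = (a ^ i)⁻¹ * (a ^ i * b ^ 2) := by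
        rw [h']
        rcases hb2' with e | e <;> rw [e]
        · simp
        · rw [hzc _ (pow_mem ha i)]
      _ = b ^ 2 := by group
  rcases hconj' with hinv | ⟨h4n, htw⟩
  · rcases hb2' with hbb | hbb
    · -- dihedral
      have hwA : w ∈ zpowers a := by
        obtain ⟨i, hi | hi⟩ := hall' w (hwS hwC)
        · rw [hi]; exact npow_mem_zpowers a i
        · exact absurd (by rw [hi, hsqb i hinv, hbb]) hw2
      have hn3 : n = 3 := hcentA 1 (by simpa using hwA)
      subst hn3
      obtain ⟨e⟩ := nonempty_mulEquiv_dihedralGroup (H := (S : Subgroup G)) (n := 2 ^ 2)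
        (a := ⟨a, ha⟩) (b := ⟨b, hb⟩) (by rw [hao])
        (Subtype.ext (by show b * b = 1; rw [← pow_two, hbb])) hba (Subtype.ext hinv)
        (by rw [hcard]; norm_num)
      set f : DihedralGroup (2 ^ 2) →* G := (S : Subgroup G).subtype.comp e.symm.toMonoidHom with hf
      have hinj : Function.Injective f := (S : Subgroup G).subtype_injective.comp e.symm.injective
      have hrange : f.range = (S : Subgroup G) := by
        rw [hf, MonoidHom.range_comp, MonoidHom.range_eq_top.2 e.symm.surjective,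
          ← MonoidHom.range_eq_map, Subgroup.range_subtype]
      obtain ⟨p, hp⟩ := (hrange.symm ▸ hwS hwC : w ∈ f.range)
      have hp2 : p * p ≠ 1 := fun h => hw2 (by rw [← hp, ← map_mul, h, map_one])
      have key : ∀ p : DihedralGroup (2 ^ 2), p * p ≠ 1 → p = r 1 ∨ p = r 3 := by decide
      have hwr : w ∈ zpowers (f (r 1)) ∧ f (r 1) ∈ zpowers w := by
        rcases key p hp2 with rfl | rfl
        · exact ⟨hp ▸ mem_zpowers _, hp ▸ mem_zpowers _⟩
        · have h31 : f (r 3) = (f (r 1))⁻¹ := by rw [← map_inv]; rfl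
          rw [h31] at hp
          exact ⟨hp ▸ inv_mem (mem_zpowers _), by
            rw [← inv_inv (f (r 1)), hp]; exact inv_mem (mem_zpowers w)⟩
      refine ⟨⟨S, f, hinj, hrange,
        all_conj_of_no_index_two hinj hrange (by norm_num) (index_ne_two hna), fun x hx => ?_⟩⟩
      have hxC : x ∈ C := by
        obtain ⟨i, hi⟩ := mem_zpowers_iff.1 hwr.1
        refine mem_centralizer_singleton_iff.2 ?_
        rw [← hi]
        exact (hx.zpow_right i).eq
      have hCw : C = zpowers w := by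
        refine (eq_of_le_of_card_ge (zpowers_le.2 hwC) ?_).symm
        rw [h4, Nat.card_zpowers]
        by_contra hlt
        obtain ⟨j, hj, ej⟩ := (Nat.dvd_prime_pow Nat.prime_two).1
          (show orderOf w ∣ 2 ^ 2 from orderOf_dvd_of_pow_eq_one hw4)
        interval_cases j
        · exact hw1 (orderOf_eq_one_iff.1 ej)
        · exact hw2 (involution_sq ej)
        · omega
      have hxr : x ∈ zpowers (f (r 1)) := zpowers_le.2 hwr.1 (hCw ▸ hxC)
      obtain ⟨i, hi⟩ := mem_zpowers_iff.1 hxr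
      exact ⟨(i : ZMod (2 ^ 2)), by rw [← hi, ← map_zpow, DihedralGroup.r_one_zpow]⟩
    · -- quaternion
      exfalso
      refine false_of_unique_involution hna S hzo hzS fun x hx hxo => ?_
      obtain ⟨i, hi | hi⟩ := hall' x hx
      · rw [hi] at hxo ⊢; exact hinvA i hxo
      · have h := involution_sq hxo
        rw [hi, hsqb i hinv, hbb] at h
        exact absurd h (involution_ne_one hzo)
  · -- semidihedral
    exfalso
    obtain ⟨b', hb'S, hb'a, hb'2, hb'conj⟩ : ∃ b' ∈ (S : Subgroup G), b' ∉ zpowers a ∧ b' * b' = 1 ∧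
        b' * a * b'⁻¹ = z * a⁻¹ := by
      rcases hb2' with e | e
      · exact ⟨b, hb, hba', by rw [← pow_two, e], htw⟩
      · refine ⟨b * a, mul_mem hb ha, fun h => hba' ?_, ?_, ?_⟩
        · have := mul_mem h (inv_mem (mem_zpowers a))
          rwa [mul_inv_cancel_right] at this
        · calc b * a * (b * a) = (b * a * b⁻¹) * (b ^ 2 * a) := by rw [pow_two]; group
            _ = z * a⁻¹ * (a * z) := by rw [htw, e, hzc a ha]
            _ = z * z := by group
            _ = 1 := involution_sq hzo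
        · rw [show b * a * a * (b * a)⁻¹ = b * a * b⁻¹ by group, htw]
    have hzA : z ∈ zpowers a := pow_mem (mem_zpowers a) _
    set N := zpowers (a * a) with hN
    have hb'N : b' * (a * a) * b'⁻¹ = (a * a)⁻¹ := by
      calc b' * (a * a) * b'⁻¹ = (b' * a * b'⁻¹) * (b' * a * b'⁻¹) := by group
        _ = z * (a⁻¹ * z) * a⁻¹ := by rw [hb'conj]; group
        _ = z * (z * a⁻¹) * a⁻¹ := by rw [hzc _ (inv_mem ha)]
        _ = (z * z) * (a * a)⁻¹ := by group
        _ = (a * a)⁻¹ := by rw [involution_sq hzo, one_mul]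
    have hnorm : zpowers b' ≤ normalizer (N : Set G) := by
      refine zpowers_le.2 (mem_normalizer_iff.2 fun x => ⟨fun hx => ?_, fun hx => ?_⟩)
      · obtain ⟨i, rfl⟩ := mem_zpowers_iff.1 hx
        rw [← conj_zpow, hb'N]
        exact zpow_mem (inv_mem (mem_zpowers _)) i
      · obtain ⟨i, hi⟩ := mem_zpowers_iff.1 hx
        have e : x = b'⁻¹ * (a * a) ^ i * b' := by rw [hi]; group
        have hb'i : b'⁻¹ = b' := inv_eq_of_mul_eq_one_right hb'2
        rw [e]
        have e2 : b'⁻¹ * (a * a) ^ i * b' = b' * (a * a) ^ i * b'⁻¹ := by rw [hb'i]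
        rw [e2, ← conj_zpow, hb'N]
        exact zpow_mem (inv_mem (mem_zpowers _)) i
    set Q := zpowers b' ⊔ N with hQ
    have hmemQ : ∀ x, x ∈ Q ↔ ∃ i : ℤ, x = (a * a) ^ i ∨ x = b' * (a * a) ^ i := by
      intro x
      rw [hQ, CfsgLib.Core.mem_sup_iff_mul hnorm]
      constructor
      · rintro ⟨p, hp, q, hq, rfl⟩
        obtain ⟨j, rfl⟩ := mem_zpowers_iff.1 hp
        obtain ⟨i, rfl⟩ := mem_zpowers_iff.1 hq
        refine ⟨i, ?_⟩
        rcases Int.even_or_odd j with ⟨l, rfl⟩ | ⟨l, rfl⟩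
        · left; rw [zpow_add, ← (Commute.refl b').mul_zpow, hb'2, one_zpow, one_mul]
        · right
          rw [zpow_add, zpow_one, two_mul, zpow_add, ← (Commute.refl b').mul_zpow, hb'2, one_zpow,
            one_mul]
      · rintro ⟨i, rfl | rfl⟩
        · exact ⟨1, one_mem _, _, zpow_mem (mem_zpowers _) i, (one_mul _).symm⟩
        · exact ⟨b', mem_zpowers _, _, zpow_mem (mem_zpowers _) i, rfl⟩
    have hall2 := CfsgLib.Transfer.exists_pow_or (a := (⟨a, ha⟩ : (S : Subgroup G)))
      (b := (⟨b', hb'S⟩ : (S : Subgroup G))) (by omega) hcard hao (fun h => hb'a (by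
        obtain ⟨i, hi⟩ := mem_zpowers_iff.1 h
        exact ⟨i, congrArg Subtype.val hi⟩))
    have hsqQ : ∀ i : ℤ, b' * (a * a) ^ i * (b' * (a * a) ^ i) = 1 := by
      intro i
      calc b' * (a * a) ^ i * (b' * (a * a) ^ i)
          = b' * (a * a) ^ i * b'⁻¹ * ((b' * b') * (a * a) ^ i) := by group
        _ = 1 := by rw [← conj_zpow, hb'N, hb'2, one_mul, inv_zpow, inv_mul_cancel]
    have hdd : a * a = a ^ 2 := (pow_two a).symm
    have hnotmem : ∀ i : ℕ, a ^ i ∈ Q → Even i := by
      intro i hi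
      obtain ⟨j, e | e⟩ := (hmemQ _).1 hi
      · have h1 : a ^ ((i : ℤ) - 2 * j) = 1 := by
          rw [zpow_sub, zpow_natCast, e, hdd, ← zpow_natCast a 2, ← zpow_mul]
          simp
        have h2 : ((2 ^ (n - 1) : ℕ) : ℤ) ∣ (i : ℤ) - 2 * j := hao' ▸ orderOf_dvd_iff_zpow_eq_one.2 h1
        have h3 : (2 : ℤ) ∣ ((2 ^ (n - 1) : ℕ) : ℤ) := by
          push_cast
          exact dvd_pow_self 2 (by omega)
        have h4 : (2 : ℤ) ∣ (i : ℤ) := by
          have := dvd_add (dvd_trans h3 h2) (Dvd.intro j rfl : (2 : ℤ) ∣ 2 * j)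
          rwa [sub_add_cancel] at this
        exact even_iff_two_dvd.2 (by exact_mod_cast h4)
      · exfalso
        apply hb'a
        have := mul_mem (npow_mem_zpowers a i)
          (inv_mem (zpow_mem (mul_mem (mem_zpowers a) (mem_zpowers a)) j))
        rwa [e, mul_inv_cancel_right] at this
    have heven : ∀ i : ℕ, Even i → a ^ i ∈ Q ∧ b' * a ^ i ∈ Q := by
      rintro i ⟨l, rfl⟩
      have e : a ^ (l + l) = (a * a) ^ (l : ℤ) := by
        rw [zpow_natCast, pow_add, ← (Commute.refl a).mul_pow]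
      exact ⟨(hmemQ _).2 ⟨l, Or.inl e⟩, (hmemQ _).2 ⟨l, Or.inr (by rw [e])⟩⟩
    have hQS : Q ≤ (S : Subgroup G) := sup_le (zpowers_le.2 hb'S) (zpowers_le.2 (mul_mem ha ha))
    have hrel : Q.relIndex (S : Subgroup G) = 2 := by
      show (Q.subgroupOf (S : Subgroup G)).index = 2
      refine index_eq_two_iff.2 ⟨⟨a, ha⟩, fun x => ?_⟩
      have hmem : ∀ i : ℕ, (a ^ i ∈ Q ↔ Even i) ∧ (b' * a ^ i ∈ Q ↔ Even i) := fun i =>
        ⟨⟨hnotmem i, fun h => (heven i h).1⟩, ⟨fun h => hnotmem i (by
          have := mul_mem (inv_mem ((hmemQ b').2 ⟨0, Or.inr (by simp)⟩)) h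
          rwa [inv_mul_cancel_left] at this), fun h => (heven i h).2⟩⟩
      obtain ⟨i, rfl | rfl⟩ := hall2 x
      · rw [mem_subgroupOf, mem_subgroupOf]
        show Xor (a ^ i * a ∈ Q) (a ^ i ∈ Q)
        rw [← pow_succ, (hmem _).1, (hmem _).1, Nat.even_add_one]
        rcases Classical.em (Even i) with h | h
        · exact Or.inr ⟨h, fun h' => h' h⟩
        · exact Or.inl ⟨h, h⟩
      · rw [mem_subgroupOf, mem_subgroupOf]
        show Xor (b' * a ^ i * a ∈ Q) (b' * a ^ i ∈ Q)
        rw [mul_assoc, ← pow_succ, (hmem _).2, (hmem _).2, Nat.even_add_one]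
        rcases Classical.em (Even i) with h | h
        · exact Or.inr ⟨h, fun h' => h' h⟩
        · exact Or.inl ⟨h, h⟩
    have hinvol : ∀ x ∈ (S : Subgroup G), x * x = 1 → x ∈ Q := by
      intro x hx hxx
      by_cases hx1 : x = 1
      · rw [hx1]; exact one_mem Q
      have hxo := orderOf_eq_two_of hx1 hxx
      obtain ⟨i, e | e⟩ := hall2 ⟨x, hx⟩
      · have e' : x = a ^ i := congrArg Subtype.val e
        rw [e'] at hxo ⊢
        rw [hinvA i hxo]
        exact (heven _ ((Nat.even_pow' (by omega)).2 even_two)).1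
      · have e' : x = b' * a ^ i := congrArg Subtype.val e
        rw [e'] at hxx ⊢
        refine (heven i ?_).2
        have hai : b' * a ^ i * b'⁻¹ = z ^ i * (a ^ i)⁻¹ := by
          rw [← conj_pow, hb'conj, (show Commute z a⁻¹ from hzc _ (inv_mem ha)).mul_pow, inv_pow]
        have h1 : z ^ i = 1 := by
          calc z ^ i = z ^ i * (a ^ i)⁻¹ * ((b' * b') * a ^ i) := by rw [hb'2]; group
            _ = b' * a ^ i * (b' * a ^ i) := by rw [← hai]; group
            _ = 1 := hxx
        have := orderOf_dvd_of_pow_eq_one h1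
        rw [hzo] at this
        exact even_iff_two_dvd.2 this
    obtain ⟨g, hg⟩ := exists_conj_mem_of_transfer S Q hrel (u := w) (k := 2) (by norm_num; exact hw4)
      (fun g m hm hgS => hinvol _ hgS (by
        obtain ⟨l, rfl⟩ := hm
        rw [show g * w ^ (2 * l) * g⁻¹ * (g * w ^ (2 * l) * g⁻¹) = g * (w ^ 4) ^ l * g⁻¹ by
          rw [← pow_mul]; group, hw4, one_pow]
        group)) (index_ne_two hna)
    have hgA : g * w * g⁻¹ ∈ zpowers a := by
      obtain ⟨i, e | e⟩ := (hmemQ _).1 hg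
      · rw [e]; exact zpow_mem (mul_mem (mem_zpowers a) (mem_zpowers a)) i
      · exfalso
        have h := hsqQ i
        rw [← e, show g * w * g⁻¹ * (g * w * g⁻¹) = g * (w * w) * g⁻¹ by group, conj_eq_one_iff] at h
        exact hw2 h
    have := hcentA g hgA
    omega

end CfsgLib.Recog.SmallCentralizer
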