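import Cfsg.Agent.Lib.Recog.SmallCentralizer.Orders
import Cfsg.Agent.Lib.Recog.SmallCentralizer.Reduction
import Cfsg.Agent.Lib.Recog.SelfCentThree.Main

/-!
# Simple groups with a centraliser of order at most four
-/

set_option autoImplicit false

namespace CfsgLib.Recog.SmallCentralizer

open Subgroup

universe u

variable {G : Type u} [Group G] [Finite G] [IsSimpleGroup G]

theorem order_of_four (hna : ¬ IsMulCommutative G) {w : G}
    (h4 : Nat.card (centralizer ({w} : Set G)) = 4) :
    Nat.card G = 60 ∨ Nat.card G = 168 ∨ Nat.card G = 360 ∨ Nat.card G = 2520 := by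
  have : Fact (Nat.Prime 2) := ⟨Nat.prime_two⟩
  obtain ⟨S, hS⟩ := (IsPGroup.of_card (p := 2) (n := 2)
    (show Nat.card (centralizer ({w} : Set G)) = 2 ^ 2 by rw [h4]; norm_num)).exists_le_sylow
  obtain ⟨n, hn⟩ := IsPGroup.iff_card.1 S.2
  have h2 : 2 ≤ n := by
    have h := card_dvd_of_le hS
    rw [h4, hn, show (4 : ℕ) = 2 ^ 2 by norm_num] at h
    exact (Nat.pow_dvd_pow_iff_le_right Nat.one_lt_two).1 h
  rcases h2.eq_or_lt with rfl | h3
  · refine Or.inl (order_sixty hna S (w := w) ?_ (by rw [hn]; norm_num))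
    exact (eq_of_le_of_card_ge hS (by rw [hn, h4]; norm_num)).symm
  · obtain ⟨σ⟩ := dihedral_eight hna S hS h4 h3 hn
    exact Or.inr σ.order_cases

theorem not_order_two (hna : ¬ IsMulCommutative G) {w : G}
    (h : Nat.card (centralizer ({w} : Set G)) = 2) : False := by
  have : Fact (Nat.Prime 2) := ⟨Nat.prime_two⟩
  obtain ⟨S, hS⟩ := (IsPGroup.of_card (p := 2) (n := 1)
    (show Nat.card (centralizer ({w} : Set G)) = 2 ^ 1 by rw [h, pow_one])).exists_le_sylow
  have hwC : w ∈ centralizer ({w} : Set G) := mem_centralizer_singleton_iff.2 rfl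
  have hw1 : w ≠ 1 := fun e => hna ⟨⟨fun a b => by
    have htop : (⊤ : Subgroup G) ≤ centralizer ({w} : Set G) := fun x _ =>
      mem_centralizer_singleton_iff.2 (by simp [e])
    have := card_dvd_of_le htop
    rw [card_top, h] at this
    have h2 := (Nat.dvd_prime Nat.prime_two).1 this
    rcases h2 with h2 | h2
    · have := (Nat.card_eq_one_iff_unique.1 h2).1
      exact Subsingleton.elim _ _
    · have := isCyclic_of_prime_card h2
      letI := IsCyclic.commGroup (α := G)
      exact mul_comm a b⟩⟩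
  have : Nontrivial (S : Subgroup G) := ⟨⟨⟨w, hS hwC⟩, 1, fun e => hw1 (congrArg Subtype.val e)⟩⟩
  obtain ⟨⟨z, hz⟩, hz2⟩ := exists_prime_orderOf_dvd_card' (G := center (S : Subgroup G)) 2 (by
    obtain ⟨k, hk⟩ := (S.2.to_subgroup (center (S : Subgroup G))).exists_card_eq
    have := S.2.center_nontrivial
    rw [hk]
    refine dvd_pow_self 2 fun e => ?_
    rw [e, pow_zero] at hk
    exact (Finite.one_lt_card (α := center (S : Subgroup G))).ne' hk)
  rw [Subgroup.orderOf_mk, ← Subgroup.orderOf_coe] at hz2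
  have hzw : Commute (z : G) w :=
    (congrArg Subtype.val (mem_center_iff.1 hz ⟨w, hS hwC⟩) : w * (z : G) = z * w).symm
  have hz1 : (z : G) ≠ 1 := CfsgLib.Signalizer.involution_ne_one hz2
  have hC2 : ∀ x ∈ centralizer ({w} : Set G), x = 1 ∨ x = w := by
    intro x hx
    by_contra hne
    push Not at hne
    have h3 : ({1, w, x} : Set G).ncard = 3 :=
      Set.ncard_eq_three.2 ⟨_, _, _, Ne.symm hw1, Ne.symm hne.1, Ne.symm hne.2, rfl⟩
    have hsub : ({1, w, x} : Set G) ⊆ (centralizer ({w} : Set G) : Set G) := by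
      rintro y (rfl | rfl | rfl)
      exacts [one_mem _, hwC, hx]
    have := Set.ncard_le_ncard hsub (Set.toFinite _)
    rw [h3, ← Nat.card_coe_set_eq, SetLike.coe_sort_coe, h] at this
    omega
  have hzeq : (z : G) = w := (hC2 _ (mem_centralizer_singleton_iff.2 hzw.eq)).resolve_left hz1
  refine false_of_unique_involution hna S hz2 z.2 fun x hx hxo => ?_
  have hxw : x ∈ centralizer ({w} : Set G) := by
    rw [← hzeq]
    exact mem_centralizer_singleton_iff.2 (congrArg Subtype.val (mem_center_iff.1 hz ⟨x, hx⟩))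
  rw [hzeq]
  exact (hC2 x hxw).resolve_left (CfsgLib.Signalizer.involution_ne_one hxo)

end CfsgLib.Recog.SmallCentralizer
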