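import Cfsg.Agent.Lib.Recog.SmallCentralizer.Formula
import Cfsg.Agent.Lib.GW.Rotation
import Cfsg.Agent.Lib.Perm.SimpleCount

/-!
# Centralisers of the odd elements fixed by a reflection

An element of `D 0` is centralised by a rotation of the four-group `⟨z, s 0⟩`; its centraliser has
a Klein four Sylow 2-subgroup and one class of involutions.
-/

set_option autoImplicit false

namespace CfsgLib.Recog.SmallCentralizer

open Subgroup DihedralGroup Cfsg
open CfsgLib.TwoGroups CfsgLib.TwoGroups.Dihedral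
open CfsgLib.Signalizer (involution_sq involution_inv involution_ne_one orderOf_eq_two_of orderOf_conj)
open CfsgLib.GW (commute_of_mem_centralizer mem_centralizer_of_commute conj_eq_of_commute
  commute_of_conj_eq Rot)

universe u

variable {G : Type u} [Group G]

theorem conj_commute {g x y : G} (h : Commute x y) :
    Commute (g * x * g⁻¹) (g * y * g⁻¹) :=
  h.map (MulAut.conj g).toMonoidHom

theorem natCard_centralizer_subtype (H : Subgroup G) (A : Set H) :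
    Nat.card (centralizer A) = Nat.card (H ⊓ centralizer (Subtype.val '' A) : Subgroup G) := by
  have e : (centralizer A).map H.subtype = H ⊓ centralizer (Subtype.val '' A) := by
    ext x
    constructor
    · rintro ⟨y, hy, rfl⟩
      refine ⟨y.2, mem_centralizer_iff.2 ?_⟩
      rintro _ ⟨a, ha, rfl⟩
      exact congrArg Subtype.val (mem_centralizer_iff.1 hy a ha)
    · rintro ⟨h1, h2⟩
      exact ⟨⟨x, h1⟩, mem_centralizer_iff.2 fun a ha => Subtype.ext
        (mem_centralizer_iff.1 h2 a (Set.mem_image_of_mem _ ha)), rfl⟩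
  rw [← e, card_map_of_injective H.subtype_injective]

/-- The involutions of a subgroup. -/
def invs (H : Subgroup G) : Set G := {v | orderOf v = 2 ∧ v ∈ H}

theorem natCard_invs_mul (H : Subgroup G) {t : G} (ht : t ∈ H) (ho : orderOf t = 2)
    (hconj : ∀ v ∈ H, orderOf v = 2 → ∃ x ∈ H, x * t * x⁻¹ = v) :
    Nat.card (invs H) * Nat.card (H ⊓ centralizer ({t} : Set G) : Subgroup G) = Nat.card H := by
  classical
  have e : invs H = Subtype.val '' MulAction.orbit (ConjAct H) (⟨t, ht⟩ : H) := by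
    ext v
    constructor
    · rintro ⟨hv, hvH⟩
      obtain ⟨x, hx, rfl⟩ := hconj v hvH hv
      exact ⟨ConjAct.toConjAct ⟨x, hx⟩ • (⟨t, ht⟩ : H), ⟨_, rfl⟩, rfl⟩
    · rintro ⟨_, ⟨c, rfl⟩, rfl⟩
      refine ⟨?_, SetLike.coe_mem _⟩
      show orderOf (((c • (⟨t, ht⟩ : H) : H)) : G) = 2
      rw [Subgroup.orderOf_coe, ConjAct.smul_def, orderOf_conj, ← Subgroup.orderOf_coe]
      exact ho
  have h2 : Nat.card (MulAction.stabilizer (ConjAct H) (⟨t, ht⟩ : H)) =
      Nat.card (H ⊓ centralizer ({t} : Set G) : Subgroup G) := by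
    rw [← Set.image_singleton (f := (Subtype.val : H → G)) (a := ⟨t, ht⟩),
      ← natCard_centralizer_subtype]
    exact Nat.card_congr ((ConjAct.toConjAct : H ≃* ConjAct H).symm.toEquiv.subtypeEquiv fun c => by
      rw [MulAction.mem_stabilizer_iff, ConjAct.smul_def, mul_inv_eq_iff_eq_mul,
        mem_centralizer_singleton_iff]
      rfl)
  rw [e, Nat.card_image_of_injective Subtype.val_injective, ← h2, ← Nat.card_prod]
  exact Nat.card_congr (MulAction.orbitProdStabilizerEquivGroup (ConjAct H) _)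

/-- The embedding of the four-group through `sr 0`. -/
def fourHom : DihedralGroup (2 ^ 1) →* DihedralGroup (2 ^ 2) where
  toFun
    | r i => r (2 * (i.val : ZMod (2 ^ 2)))
    | sr i => sr (2 * (i.val : ZMod (2 ^ 2)))
  map_one' := rfl
  map_mul' := by decide

theorem fourHom_injective : Function.Injective fourHom := by decide

theorem fourHom_commute : ∀ p, fourHom p * sr 0 = sr 0 * fourHom p := by decide

theorem fourHom_surj : ∀ p : DihedralGroup (2 ^ 2), p * sr 0 = sr 0 * p →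
    ∃ q, fourHom q = p := by decide

namespace Dat

variable [Finite G] (σ : Dat G)

theorem exists_conj_s {v : G} (hv : orderOf v = 2) (hne : v ≠ σ.z) (hc : Commute v σ.z) :
    ∃ k ∈ σ.U, ∃ j, k * v * k⁻¹ = σ.s j := by
  obtain ⟨p, y, hy, rfl⟩ := σ.exists_split hc
  have hy' : (σ.f p)⁻¹ * y * σ.f p ∈ σ.U := by
    have := σ.conj_mem_U (g := (σ.f p)⁻¹) (σ.commute_z p).inv_left hy
    rwa [inv_inv] at this
  have hsq : σ.f (p * p) * ((σ.f p)⁻¹ * y * σ.f p * y) = σ.f 1 * 1 := by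
    rw [map_one, one_mul, map_mul, ← involution_sq hv]; group
  obtain ⟨hp, hinv⟩ := σ.f_mul_inj (mul_mem hy' hy) (one_mem _) hsq
  have key : ∀ p : DihedralGroup (2 ^ 2), p * p = 1 → p = 1 ∨ p = r 2 ∨ ∃ j, p = sr j := by decide
  rcases key p hp with rfl | rfl | ⟨j, rfl⟩
  · exfalso
    rw [map_one, one_mul] at hv
    have := σ.odd_orderOf hy
    rw [hv] at this
    exact absurd this (by decide)
  · exfalso
    apply hne
    have h1 : y * y = 1 := by
      rw [show (σ.f (r 2))⁻¹ * y * σ.f (r 2) = y by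
        rw [mul_assoc, show y * σ.f (r 2) = σ.f (r 2) * y from (σ.mem_U.1 hy).1.eq,
          inv_mul_cancel_left]] at hinv
      exact hinv
    rw [CfsgLib.GW.eq_one_of_inv_self (σ.odd_orderOf hy) (inv_eq_of_mul_eq_one_right h1), mul_one]
    rfl
  obtain ⟨l, hl⟩ := σ.odd_orderOf hy
  set k := y ^ (l + 1) with hk
  have hkk : k * k = y := by
    rw [hk, ← pow_add, show l + 1 + (l + 1) = orderOf y + 1 by omega, pow_succ,
      pow_orderOf_eq_one, one_mul]
  refine ⟨k, pow_mem hy _, j, ?_⟩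
  have hsk : (σ.f (sr j))⁻¹ * k * σ.f (sr j) = k⁻¹ := by
    have h := eq_inv_of_mul_eq_one_left hinv
    have := conj_pow (a := (σ.f (sr j))⁻¹) (b := y) (i := l + 1)
    rw [inv_inv] at this
    rw [hk, ← this, h, inv_pow]
  calc k * (σ.f (sr j) * y) * k⁻¹
      = σ.f (sr j) * ((σ.f (sr j))⁻¹ * k * σ.f (sr j)) * y * k⁻¹ := by group
    _ = σ.f (sr j) * k⁻¹ * y * k⁻¹ := by rw [hsk]
    _ = σ.f (sr j) := by rw [← hkk]; group

theorem exists_rot : ∃ g, Rot σ.z (σ.s 0) g := by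
  set a := σ.s 0 with ha
  obtain ⟨d, hd⟩ := isConj_iff.1 (σ.one_class a σ.z (σ.orderOf_s 0) σ.orderOf_z)
  have haz : a ≠ σ.z := σ.s_ne_z 0
  obtain ⟨k, hk, j, hj⟩ := σ.exists_conj_s (v := d * σ.z * d⁻¹)
    (by rw [orderOf_conj]; exact σ.orderOf_z)
    (fun e => haz (mul_left_cancel (mul_right_cancel (hd.trans e.symm))))
    (by
      have := conj_commute (g := d) (σ.commute_s_z 0).symm
      rwa [← ha, hd] at this)
  set e := k * d with he
  have hea : e * a * e⁻¹ = σ.z := by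
    rw [he, show k * d * a * (k * d)⁻¹ = k * (d * a * d⁻¹) * k⁻¹ by group, hd]
    exact conj_eq_of_commute (σ.mem_U.1 hk).1
  have hez : e * σ.z * e⁻¹ = σ.s j := by rw [← hj, he]; group
  set c := e⁻¹ * σ.w * e with hc
  have hca : c * a * c⁻¹ = a := by
    rw [hc, show e⁻¹ * σ.w * e * a * (e⁻¹ * σ.w * e)⁻¹ = e⁻¹ * (σ.w * (e * a * e⁻¹) * σ.w⁻¹) * e by group,
      hea, conj_eq_of_commute σ.commute_w_z, ← hea]
    group
  have hcz : c * σ.z * c⁻¹ = a * σ.z := by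
    rw [hc, show e⁻¹ * σ.w * e * σ.z * (e⁻¹ * σ.w * e)⁻¹ =
        e⁻¹ * (σ.w * (e * σ.z * e⁻¹) * σ.w⁻¹) * e by group,
      hez, conj_w_s, ← z_mul_s, ← hez, ← hea]
    group
  have hwa : σ.w * a * σ.w⁻¹ = σ.z * a := by rw [ha, conj_w_s, z_mul_s]
  have hwz : σ.w * σ.z * σ.w⁻¹ = σ.z := conj_eq_of_commute σ.commute_w_z
  refine ⟨σ.w * c, σ.orderOf_z, σ.orderOf_s 0, haz.symm, (σ.commute_s_z 0).symm, ?_, ?_⟩
  · rw [show σ.w * c * σ.z * (σ.w * c)⁻¹ = σ.w * (c * σ.z * c⁻¹) * σ.w⁻¹ by group, hcz,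
      show σ.w * (a * σ.z) * σ.w⁻¹ = σ.w * a * σ.w⁻¹ * (σ.w * σ.z * σ.w⁻¹) by group, hwa, hwz,
      mul_assoc, (σ.commute_s_z 0).eq, ← mul_assoc, involution_sq σ.orderOf_z, one_mul]
  · rw [show σ.w * c * a * (σ.w * c)⁻¹ = σ.w * (c * a * c⁻¹) * σ.w⁻¹ by group, hca, hwa]

theorem commute_f_of_pair {p : DihedralGroup (2 ^ 2)} (hp : p * sr 0 = sr 0 * p) {x : G}
    (hx : x ∈ σ.D 0) : Commute (σ.f p) x := by
  have key : ∀ p : DihedralGroup (2 ^ 2), p * sr 0 = sr 0 * p →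
      p = 1 ∨ p = r 2 ∨ p = sr 0 ∨ p = r 2 * sr 0 := by decide
  obtain ⟨hz, -, hs⟩ := σ.mem_D.1 hx
  rcases key p hp with rfl | rfl | rfl | rfl
  · rw [map_one]; exact Commute.one_left x
  · exact hz.symm
  · exact hs.symm
  · rw [map_mul]; exact hz.symm.mul_left hs.symm

theorem conj_f_cases {x : G} (hx : x ∈ σ.D 0) (p : DihedralGroup (2 ^ 2)) :
    σ.f p * x * (σ.f p)⁻¹ = x ∨ σ.f p * x * (σ.f p)⁻¹ = x⁻¹ := by
  have key : ∀ p : DihedralGroup (2 ^ 2), p * sr 0 = sr 0 * p ∨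
      ∃ q, q * sr 0 = sr 0 * q ∧ p = q * r 1 := by decide
  rcases key p with h | ⟨q, hq, rfl⟩
  · exact Or.inl (conj_eq_of_commute (σ.commute_f_of_pair h hx))
  · right
    rw [map_mul, show σ.f q * σ.f (r 1) * x * (σ.f q * σ.f (r 1))⁻¹ =
      σ.f q * (σ.w * x * σ.w⁻¹) * (σ.f q)⁻¹ by rw [w]; group, σ.w_inverts hx.1]
    exact conj_eq_of_commute (σ.commute_f_of_pair hq hx).inv_right

theorem commute_f_iff {x : G} (hx : x ∈ σ.D 0) (hx1 : x ≠ 1) (p : DihedralGroup (2 ^ 2)) :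
    Commute (σ.f p) x ↔ p * sr 0 = sr 0 * p := by
  refine ⟨fun h => ?_, fun h => σ.commute_f_of_pair h hx⟩
  have key : ∀ p : DihedralGroup (2 ^ 2), p * sr 0 = sr 0 * p ∨
      ∃ q, q * sr 0 = sr 0 * q ∧ p = q * r 1 := by decide
  rcases key p with h' | ⟨q, hq, rfl⟩
  · exact h'
  exfalso
  rw [map_mul] at h
  have hw : Commute σ.w x := by
    have := (σ.commute_f_of_pair hq hx).inv_left.mul_left h
    rwa [inv_mul_cancel_left] at this
  have h1 := σ.w_inverts hx.1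
  rw [conj_eq_of_commute hw] at h1
  exact hx1 (CfsgLib.GW.eq_one_of_inv_self (σ.odd_orderOf hx.1) h1.symm)

theorem rot_commute {g : G} (hg : Rot σ.z (σ.s 0) g) {x : G} (hx : x ∈ σ.D 0) : Commute g x := by
  set a := σ.s 0 with ha
  have hza : Commute σ.z a := (σ.commute_s_z 0).symm
  have hD : ∀ y ∈ σ.D 0, g * y * g⁻¹ ∈ σ.D 0 := by
    intro y hy
    obtain ⟨h1, h2, h3⟩ := σ.mem_D.1 hy
    have ha' : Commute (g * y * g⁻¹) a := hg.conj1 ▸ conj_commute h1
    have hb' : Commute (g * y * g⁻¹) (σ.z * a) := hg.conj2 ▸ conj_commute h3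
    refine σ.mem_D.2 ⟨?_, by rwa [orderOf_conj], ha'⟩
    have := hb'.mul_right ha'.inv_right
    rwa [mul_inv_cancel_right] at this
  have htriv : ∀ h : G, Commute h σ.z → Commute h a → ∀ y ∈ σ.D 0, h * y * h⁻¹ = y := by
    intro h hhz hha y hy
    obtain ⟨p, hp, q, hq, rfl⟩ := σ.exists_split_pair hhz hha
    exact conj_eq_of_commute
      ((σ.commute_f_of_pair hp hy).mul_left (σ.comm_U hq.1 hy.1))
  have hzg : g * (σ.z * a) * g⁻¹ = σ.z := by
    rw [show g * (σ.z * a) * g⁻¹ = g * σ.z * g⁻¹ * (g * a * g⁻¹) by group, hg.conj1, hg.conj2,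
      hza.eq, ← mul_assoc, involution_sq (σ.orderOf_s 0), one_mul]
  have h3 : ∀ y ∈ σ.D 0, g * (g * (g * y * g⁻¹) * g⁻¹) * g⁻¹ = y := by
    intro y hy
    have := htriv (g * g * g)
      (commute_of_conj_eq (by
        rw [show g * g * g * σ.z * (g * g * g)⁻¹ = g * (g * (g * σ.z * g⁻¹) * g⁻¹) * g⁻¹ by group,
          hg.conj1, hg.conj2, hzg]))
      (commute_of_conj_eq (by
        rw [show g * g * g * a * (g * g * g)⁻¹ = g * (g * (g * a * g⁻¹) * g⁻¹) * g⁻¹ by group,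
          hg.conj2, hzg, hg.conj1])) y hy
    exact Eq.trans (by group) this
  have hwz : σ.w * σ.z * σ.w⁻¹ = σ.z := conj_eq_of_commute σ.commute_w_z
  have hwa : σ.w * a * σ.w⁻¹ = σ.z * a := by rw [ha, conj_w_s, z_mul_s]
  have hwa' : σ.w⁻¹ * a * σ.w = σ.z * a := by
    calc σ.w⁻¹ * a * σ.w = (σ.w * σ.w)⁻¹ * (σ.w * a * σ.w⁻¹) * (σ.w * σ.w) := by group
      _ = σ.z⁻¹ * (σ.z * a) * σ.z := by rw [σ.w_mul_w, hwa]
      _ = σ.z * a := by rw [inv_mul_cancel_left, hza.eq]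
  have hwz' : σ.w⁻¹ * σ.z * σ.w = σ.z := by
    rw [mul_assoc, ← σ.commute_w_z.eq, inv_mul_cancel_left]
  have hwza : σ.w * (σ.z * a) * σ.w⁻¹ = a := by
    rw [show σ.w * (σ.z * a) * σ.w⁻¹ = σ.w * σ.z * σ.w⁻¹ * (σ.w * a * σ.w⁻¹) by group, hwz, hwa,
      ← mul_assoc, involution_sq σ.orderOf_z, one_mul]
  set h := g * (σ.w * g * σ.w⁻¹) with hh
  have h2 : ∀ y ∈ σ.D 0, g * (g * y * g⁻¹) * g⁻¹ = y := by
    intro y hy
    refine Eq.trans ?_ (htriv h ?_ ?_ y hy)
    · have hwy : σ.w⁻¹ * y * σ.w = y⁻¹ := by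
        calc σ.w⁻¹ * y * σ.w = σ.w⁻¹ * (σ.w * y⁻¹ * σ.w⁻¹) * σ.w := by
              rw [σ.w_inverts (σ.U.inv_mem hy.1), inv_inv]
          _ = y⁻¹ := by group
      have hgy : σ.w * (g * y⁻¹ * g⁻¹) * σ.w⁻¹ = g * y * g⁻¹ := by
        rw [σ.w_inverts (hD _ ((σ.D 0).inv_mem hy)).1]; group
      rw [hh, show g * (σ.w * g * σ.w⁻¹) * y * (g * (σ.w * g * σ.w⁻¹))⁻¹ =
        g * (σ.w * (g * (σ.w⁻¹ * y * σ.w) * g⁻¹) * σ.w⁻¹) * g⁻¹ by group, hwy, hgy]
    · exact commute_of_conj_eq (by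
        rw [hh, show g * (σ.w * g * σ.w⁻¹) * σ.z * (g * (σ.w * g * σ.w⁻¹))⁻¹ =
          g * (σ.w * (g * (σ.w⁻¹ * σ.z * σ.w) * g⁻¹) * σ.w⁻¹) * g⁻¹ by group,
          hwz', hg.conj1, hwa, hzg])
    · exact commute_of_conj_eq (by
        rw [hh, show g * (σ.w * g * σ.w⁻¹) * a * (g * (σ.w * g * σ.w⁻¹))⁻¹ =
          g * (σ.w * (g * (σ.w⁻¹ * a * σ.w) * g⁻¹) * σ.w⁻¹) * g⁻¹ by group,
          hwa', hzg, hwz, hg.conj1])
  refine commute_of_conj_eq ?_
  have := h3 x hx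
  rwa [h2 _ (hD x hx)] at this

variable {d : G}

theorem natCard_cent_zd (hd : d ∈ σ.D 0) (hd1 : d ≠ 1) :
    Nat.card (centralizer ({σ.z, d} : Set G)) = 4 * Nat.card σ.U := by
  classical
  have h4 : Fintype.card {p : DihedralGroup (2 ^ 2) // p * sr 0 = sr 0 * p} = 4 := by decide
  rw [← h4, ← Nat.card_eq_fintype_card, ← Nat.card_prod]
  refine (Nat.card_eq_of_bijective
    (fun v : {p : DihedralGroup (2 ^ 2) // p * sr 0 = sr 0 * p} × σ.U =>
      (⟨σ.f v.1 * v.2, mem_pair.2 ⟨(σ.commute_z _).mul_left (σ.mem_U.1 v.2.2).1,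
        (σ.commute_f_of_pair v.1.2 hd).mul_left (σ.comm_U v.2.2 hd.1)⟩⟩ :
        centralizer ({σ.z, d} : Set G))) ⟨?_, ?_⟩).symm
  · rintro ⟨⟨p, hp⟩, y, hy⟩ ⟨⟨q, hq⟩, y', hy'⟩ h
    obtain ⟨rfl, rfl⟩ := σ.f_mul_inj hy hy' (congrArg Subtype.val h)
    rfl
  · rintro ⟨x, hx⟩
    obtain ⟨hz, hdx⟩ := mem_pair.1 hx
    obtain ⟨p, y, hy, rfl⟩ := σ.exists_split hz
    have hp : Commute (σ.f p) d := by
      have := hdx.mul_left ((show Commute y d from σ.comm_U hy hd.1).inv_left)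
      rwa [mul_inv_cancel_right] at this
    exact ⟨(⟨p, (σ.commute_f_iff hd hd1 p).1 hp⟩, ⟨y, hy⟩), rfl⟩

theorem four_le_cd (hd : d ∈ σ.D 0) (q : DihedralGroup (2 ^ 1)) :
    σ.f (fourHom q) ∈ centralizer ({d} : Set G) :=
  mem_centralizer_of_commute (σ.commute_f_of_pair (fourHom_commute q) hd)

theorem two_group_card_le (hd : d ∈ σ.D 0) (hd1 : d ≠ 1) {Q : Subgroup G} (hQ : IsPGroup 2 Q)
    (hQd : Q ≤ centralizer ({d} : Set G)) (hV : (fourHom.range).map σ.f ≤ Q) :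
    Q = (fourHom.range).map σ.f := by
  classical
  have : Fact (Nat.Prime 2) := ⟨Nat.prime_two⟩
  have hzQ : σ.z ∈ Q := hV ⟨r 2, ⟨r 1, rfl⟩, rfl⟩
  have haQ : σ.s 0 ∈ Q := hV ⟨sr 0, ⟨sr 0, rfl⟩, rfl⟩
  have : Nontrivial Q := ⟨⟨⟨σ.z, hzQ⟩, 1, fun e =>
    involution_ne_one σ.orderOf_z (congrArg Subtype.val e)⟩⟩
  have hZ := hQ.center_nontrivial
  obtain ⟨⟨c, hc⟩, hc2⟩ := exists_prime_orderOf_dvd_card' (G := Subgroup.center Q) 2 (by
    obtain ⟨k, hk⟩ := (hQ.to_subgroup (Subgroup.center Q)).exists_card_eq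
    rw [hk]
    refine dvd_pow_self 2 fun e => ?_
    rw [e, pow_zero] at hk
    exact (Finite.one_lt_card (α := Subgroup.center Q)).ne' hk)
  rw [Subgroup.orderOf_mk, ← Subgroup.orderOf_coe] at hc2
  have hcom : ∀ y ∈ Q, Commute (c : G) y := fun y hy =>
    (congrArg Subtype.val (Subgroup.mem_center_iff.1 hc ⟨y, hy⟩) : y * (c : G) = c * y).symm
  obtain ⟨g, hg⟩ := σ.exists_rot
  have hgd : Commute g d := σ.rot_commute hg hd
  obtain ⟨h, hhd, hhc⟩ : ∃ h : G, Commute h d ∧ h * (c : G) * h⁻¹ = σ.z := by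
    rcases three_inv σ hc2 (hcom _ hzQ) (hcom _ haQ) with e | e | e
    · exact ⟨1, Commute.one_left d, by rw [e]; group⟩
    · exact ⟨g⁻¹, hgd.inv_left, by rw [e, ← hg.conj1]; group⟩
    · exact ⟨g⁻¹ * g⁻¹, hgd.inv_left.mul_left hgd.inv_left, by
        rw [e, ← hg.conj2, ← hg.conj1]; group⟩
  have hle : Q.map (MulAut.conj h).toMonoidHom ≤ centralizer ({σ.z, d} : Set G) := by
    rintro _ ⟨y, hy, rfl⟩
    refine mem_pair.2 ⟨hhc ▸ conj_commute (hcom y hy).symm, ?_⟩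
    have := conj_commute (g := h) (commute_of_mem_centralizer (hQd hy))
    rwa [conj_eq_of_commute hhd] at this
  have hdvd := card_dvd_of_le hle
  rw [natCard_map_conj, σ.natCard_cent_zd hd hd1] at hdvd
  obtain ⟨k, hk⟩ := hQ.exists_card_eq
  rw [hk] at hdvd
  have h4 : Nat.card Q ≤ 4 := by
    rw [hk]
    exact Nat.le_of_dvd (by norm_num)
      (((Nat.coprime_two_left.2 σ.odd_U).pow_left k).dvd_of_dvd_mul_right hdvd)
  refine (eq_of_le_of_card_ge hV ?_).symm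
  rw [card_map_of_injective σ.inj]
  refine h4.trans (le_of_eq ?_)
  rw [← Nat.card_congr (MonoidHom.ofInjective fourHom_injective).toEquiv, DihedralGroup.nat_card]
  norm_num
where
  three_inv (σ : Dat G) {c : G} (hc : orderOf c = 2) (h1 : Commute c σ.z)
      (h2 : Commute c (σ.s 0)) : c = σ.z ∨ c = σ.s 0 ∨ c = σ.z * σ.s 0 := by
    rcases CfsgLib.GW.three_involutions σ.inj σ.range one_le_two σ.orderOf_z (σ.orderOf_s 0)
      (involution_sq hc) (σ.s_ne_z 0).symm (σ.commute_s_z 0).symm h1.symm h2.symm with e | e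
    · exact absurd e (involution_ne_one hc)
    · exact e

/-- A subgroup of `C(d)` containing the four-group has it as a Sylow 2-subgroup. -/
theorem klein_sylow (hd : d ∈ σ.D 0) (hd1 : d ≠ 1) {H : Subgroup G}
    (hH : H ≤ centralizer ({d} : Set G)) (hz : σ.z ∈ H) (ha : σ.s 0 ∈ H) :
    ∃ (S : Sylow 2 H) (f : DihedralGroup (2 ^ 1) →* H), Function.Injective f ∧
      f.range = (S : Subgroup H) ∧ ∀ q, (f q : G) = σ.f (fourHom q) := by
  classical
  have : Fact (Nat.Prime 2) := ⟨Nat.prime_two⟩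
  have hmem : ∀ q, (σ.f.comp fourHom) q ∈ H := by
    intro q
    have key : ∀ q : DihedralGroup (2 ^ 1), fourHom q = 1 ∨ fourHom q = r 2 ∨ fourHom q = sr 0 ∨
        fourHom q = r 2 * sr 0 := by decide
    show σ.f (fourHom q) ∈ H
    rcases key q with e | e | e | e <;> rw [e]
    · rw [map_one]; exact one_mem H
    · exact hz
    · exact ha
    · rw [map_mul]; exact mul_mem hz ha
  set f : DihedralGroup (2 ^ 1) →* H := (σ.f.comp fourHom).codRestrict H hmem with hf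
  have hinj : Function.Injective f := fun p q h =>
    fourHom_injective (σ.inj (congrArg Subtype.val h))
  have h2 : IsPGroup 2 f.range :=
    (IsPGroup.of_card (p := 2) (G := DihedralGroup (2 ^ 1)) (n := 2)
      (by rw [DihedralGroup.nat_card]; norm_num)).of_surjective f.rangeRestrict
      f.rangeRestrict_surjective
  obtain ⟨P, hP⟩ := h2.exists_le_sylow
  have e : (fourHom.range).map σ.f = f.range.map H.subtype := by
    rw [MonoidHom.map_range, MonoidHom.map_range]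
    rfl
  have hP' := σ.two_group_card_le hd hd1 (P.2.map H.subtype)
    (fun x hx => by obtain ⟨y, -, rfl⟩ := hx; exact hH y.2)
    (e ▸ map_mono hP)
  exact ⟨P, f, hinj, (map_injective H.subtype_injective (hP'.trans e)).symm, fun _ => rfl⟩

theorem exists_conj_z_cd (hd : d ∈ σ.D 0) (hd1 : d ≠ 1) {H : Subgroup G}
    (hH : H ≤ centralizer ({d} : Set G)) (hz : σ.z ∈ H) (ha : σ.s 0 ∈ H) {g : G} (hgH : g ∈ H)
    (hg : Rot σ.z (σ.s 0) g) {v : G} (hvH : v ∈ H) (hv : orderOf v = 2) :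
    ∃ x ∈ H, x * σ.z * x⁻¹ = v := by
  classical
  have : Fact (Nat.Prime 2) := ⟨Nat.prime_two⟩
  obtain ⟨S, f, hf, hS, hfv⟩ := σ.klein_sylow hd hd1 hH hz ha
  have hvo : orderOf (⟨v, hvH⟩ : H) = 2 := by rw [← Subgroup.orderOf_coe]; exact hv
  have hQ : IsPGroup 2 (zpowers (⟨v, hvH⟩ : H)) :=
    IsPGroup.of_card (n := 1) (by rw [Nat.card_zpowers, hvo, pow_one])
  obtain ⟨⟨c, hcH⟩, hc⟩ := CfsgLib.GW.exists_pull hS hQ
  obtain ⟨q, hq⟩ := hc _ (mem_zpowers _)
  have hq' : σ.f (fourHom q) = c * v * c⁻¹ := (hfv q).symm.trans (congrArg Subtype.val hq)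
  have hqo : orderOf (σ.f (fourHom q)) = 2 := by rw [hq', orderOf_conj]; exact hv
  have key : ∀ q : DihedralGroup (2 ^ 1), fourHom q = 1 ∨ fourHom q = r 2 ∨ fourHom q = sr 0 ∨
      fourHom q = r 2 * sr 0 := by decide
  rcases key q with e | e | e | e <;> rw [e] at hq' hqo
  · rw [map_one, orderOf_one] at hqo; exact absurd hqo (by norm_num)
  · exact ⟨c⁻¹, inv_mem hcH, by rw [show σ.z = c * v * c⁻¹ from hq']; group⟩
  · refine ⟨c⁻¹ * g, mul_mem (inv_mem hcH) hgH, ?_⟩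
    rw [show c⁻¹ * g * σ.z * (c⁻¹ * g)⁻¹ = c⁻¹ * (g * σ.z * g⁻¹) * c by group, hg.conj1,
      show σ.s 0 = c * v * c⁻¹ from hq']
    group
  · refine ⟨c⁻¹ * (g * g), mul_mem (inv_mem hcH) (mul_mem hgH hgH), ?_⟩
    rw [show c⁻¹ * (g * g) * σ.z * (c⁻¹ * (g * g))⁻¹ = c⁻¹ * (g * (g * σ.z * g⁻¹) * g⁻¹) * c by group,
      hg.conj1, hg.conj2, show σ.z * σ.s 0 = c * v * c⁻¹ from (map_mul σ.f _ _).symm.trans hq']
    group

/-- The elements taking `d` to itself or to its inverse. -/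
def pm (d : G) : Subgroup G where
  carrier := {x | x * d * x⁻¹ = d ∨ x * d * x⁻¹ = d⁻¹}
  one_mem' := Or.inl (by simp)
  mul_mem' := by
    intro x y hx hy
    have e : x * y * d * (x * y)⁻¹ = x * (y * d * y⁻¹) * x⁻¹ := by group
    rcases hx with hx | hx <;> rcases hy with hy | hy <;>
      (show _ ∨ _) <;> rw [e, hy]
    · exact Or.inl hx
    · exact Or.inr (by rw [← conj_inv, hx])
    · exact Or.inr hx
    · exact Or.inl (by rw [← conj_inv, hx, inv_inv])
  inv_mem' := by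
    intro x hx
    rcases hx with hx | hx
    · exact Or.inl (by rw [inv_inv]; nth_rw 1 [← hx]; group)
    · refine Or.inr ?_
      rw [inv_inv]
      have : d = x * d⁻¹ * x⁻¹ := by rw [← conj_inv, hx, inv_inv]
      nth_rw 1 [this]
      group

omit [Finite G] in
theorem mem_pm {d x : G} : x ∈ pm d ↔ x * d * x⁻¹ = d ∨ x * d * x⁻¹ = d⁻¹ := Iff.rfl

theorem natCard_pm (hd : d ∈ σ.D 0) (hd1 : d ≠ 1) :
    Nat.card (pm d) = 2 * Nat.card (centralizer ({d} : Set G)) := by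
  classical
  have hwd : σ.w * d * σ.w⁻¹ = d⁻¹ := σ.w_inverts hd.1
  have hwpm : σ.w ∈ pm d := Or.inr hwd
  have hne : d⁻¹ ≠ d := fun e => hd1 (CfsgLib.GW.eq_one_of_inv_self (σ.odd_orderOf hd.1) e)
  rw [show (2 : ℕ) = Nat.card Bool by simp, ← Nat.card_prod]
  refine (Nat.card_eq_of_bijective
    (fun v : Bool × centralizer ({d} : Set G) =>
      (⟨cond v.1 σ.w 1 * v.2, mul_mem (by cases v.1; exacts [one_mem _, hwpm])
        (Or.inl (conj_eq_of_commute (commute_of_mem_centralizer v.2.2)))⟩ : pm d)) ⟨?_, ?_⟩).symm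
  · rintro ⟨e, x, hx⟩ ⟨e', x', hx'⟩ h
    have h' : cond e σ.w 1 * x = cond e' σ.w 1 * x' := congrArg Subtype.val h
    have hxd := conj_eq_of_commute (commute_of_mem_centralizer hx)
    have hxd' := conj_eq_of_commute (commute_of_mem_centralizer hx')
    have h1 := congrArg (fun t => t * d * t⁻¹) h'
    simp only [show ∀ c y : G, c * y * d * (c * y)⁻¹ = c * (y * d * y⁻¹) * c⁻¹ from
      fun c y => by group, hxd, hxd'] at h1
    cases e <;> cases e' <;> simp only [cond_false, cond_true, one_mul, mul_one, inv_one] at h1 h'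
    · subst h'; rfl
    · exact absurd (hwd.symm.trans h1.symm) hne
    · exact absurd (hwd.symm.trans h1) hne
    · obtain rfl := mul_left_cancel h'; rfl
  · rintro ⟨x, hx⟩
    rcases hx with hx | hx
    · exact ⟨(false, ⟨x, mem_centralizer_of_commute (commute_of_conj_eq hx)⟩),
        Subtype.ext (one_mul x)⟩
    · refine ⟨(true, ⟨σ.w⁻¹ * x, mem_centralizer_of_commute (commute_of_conj_eq ?_)⟩),
        Subtype.ext (mul_inv_cancel_left _ _)⟩
      rw [show σ.w⁻¹ * x * d * (σ.w⁻¹ * x)⁻¹ = σ.w⁻¹ * (x * d * x⁻¹) * σ.w by group, hx, ← hwd]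
      group

/-- Conjugates of `d` in `U` are `d` and `d⁻¹`. -/
theorem conj_mem_U_cases (hd : d ∈ σ.D 0) (hd1 : d ≠ 1) {x : G} (hx : x * d * x⁻¹ ∈ σ.U) :
    x ∈ pm d := by
  obtain ⟨g, hg⟩ := σ.exists_rot
  have hgd : g ∈ centralizer ({d} : Set G) := mem_centralizer_of_commute (σ.rot_commute hg hd)
  have hc : Commute (x⁻¹ * σ.z * x) d := by
    have := conj_commute (g := x⁻¹) (σ.mem_U.1 hx).1.symm
    simpa [mul_assoc] using this
  obtain ⟨h, hh, hhv⟩ := σ.exists_conj_z_cd hd hd1 le_rfl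
    (mem_centralizer_of_commute (σ.mem_D.1 hd).1.symm)
    (mem_centralizer_of_commute (σ.mem_D.1 hd).2.2.symm) hgd hg
    (mem_centralizer_of_commute hc) (by
      have := orderOf_conj x⁻¹ σ.z
      rw [inv_inv] at this
      rw [this, σ.orderOf_z])
  have hxh : Commute (x * h) σ.z := commute_of_conj_eq (by
    rw [show x * h * σ.z * (x * h)⁻¹ = x * (h * σ.z * h⁻¹) * x⁻¹ by group, hhv]; group)
  obtain ⟨p, y, hy, he⟩ := σ.exists_split hxh
  have hxy : x * h ∈ pm d := by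
    rw [he]
    exact mul_mem (σ.conj_f_cases hd p) (Or.inl (conj_eq_of_commute (σ.comm_U hy hd.1)))
  have hh' : h ∈ pm d := Or.inl (conj_eq_of_commute (commute_of_mem_centralizer hh))
  have := mul_mem hxy (inv_mem hh')
  rwa [mul_inv_cancel_right] at this

/-- The numerical consequences. -/
theorem exists_index (hd : d ∈ σ.D 0) (hd1 : d ≠ 1) [IsSimpleGroup G] :
    ∃ N n : ℕ, Odd N ∧ N = (pm d).index ∧ n = Nat.card (invs (centralizer ({d} : Set G))) ∧
      σ.idx = N * n ∧ n * (4 * Nat.card σ.U) = Nat.card (centralizer ({d} : Set G)) ∧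
      3 * σ.o 1 ^ 2 ≤ n ∧ n ≤ 15 * σ.o 1 ^ 2 ∧ 2 * Nat.card G ∣ N.factorial := by
  classical
  obtain ⟨g, hg⟩ := σ.exists_rot
  set X := centralizer ({d} : Set G) with hX
  have hgd : g ∈ X := mem_centralizer_of_commute (σ.rot_commute hg hd)
  have hzX : σ.z ∈ X := mem_centralizer_of_commute (σ.mem_D.1 hd).1.symm
  have haX : σ.s 0 ∈ X := mem_centralizer_of_commute (σ.mem_D.1 hd).2.2.symm
  have hconj := fun v hv hvo => σ.exists_conj_z_cd (v := v) hd hd1 le_rfl hzX haX hgd hg hv hvo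
  have hXz : (X ⊓ centralizer ({σ.z} : Set G) : Subgroup G) = centralizer ({σ.z, d} : Set G) := by
    ext x
    rw [mem_pair, Subgroup.mem_inf, hX]
    exact ⟨fun h => ⟨commute_of_mem_centralizer h.2, commute_of_mem_centralizer h.1⟩,
      fun h => ⟨mem_centralizer_of_commute h.2, mem_centralizer_of_commute h.1⟩⟩
  have hn := natCard_invs_mul X hzX σ.orderOf_z hconj
  rw [hXz, σ.natCard_cent_zd hd hd1] at hn
  set n := Nat.card (invs X) with hn'
  have hG : Nat.card G = (pm d).index * (2 * Nat.card X) := by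
    rw [← σ.natCard_pm hd hd1, mul_comm, card_mul_index]
  have hi : σ.idx = (pm d).index * n := by
    refine Nat.eq_of_mul_eq_mul_left (by have := σ.o_pos 0; have := σ.o_pos 1; positivity :
      0 < 8 * (σ.o 0 * σ.o 1)) ?_
    rw [← σ.natCard_G, hG, ← hn, σ.natCard_U]
    ring
  have hNodd : Odd (pm d).index := by
    have := σ.odd_idx
    rw [hi] at this
    exact (Nat.odd_mul.1 this).1
  have hlow : 3 * σ.o 1 ^ 2 ≤ n ∧ n ≤ 15 * σ.o 1 ^ 2 := by
    obtain ⟨M, hM⟩ : ∃ M : Ideal AlgInt, IsPModular 2 M :=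
      CfsgLib.ZStar.exists_isPModular Nat.prime_two
    obtain ⟨S, f, hf, hS, hfv⟩ := σ.klein_sylow hd hd1 (le_refl X) hzX haX
    obtain ⟨α, hα, hlo, hhi⟩ := CfsgLib.GW.klein_bounds_all hf hS rfl (fun a b ha hb => by
      obtain ⟨x, hx, ex⟩ := hconj a a.2 (by rw [Subgroup.orderOf_coe]; exact ha)
      obtain ⟨y, hy, ey⟩ := hconj b b.2 (by rw [Subgroup.orderOf_coe]; exact hb)
      refine isConj_iff.2 ⟨⟨y, hy⟩ * ⟨x, hx⟩⁻¹, Subtype.ext ?_⟩
      show y * x⁻¹ * (a : G) * (y * x⁻¹)⁻¹ = b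
      rw [← ex, ← ey]; group) M hM
    have c1 : Nat.card (centralizer ({f (r (half 1))} : Set X)) = 4 * Nat.card σ.U := by
      rw [natCard_centralizer_subtype, Set.image_singleton, hfv,
        show σ.f (fourHom (r (half 1))) = σ.z from rfl, hXz, σ.natCard_cent_zd hd hd1]
    have c2 : Nat.card (centralizer ((S : Subgroup X) : Set X)) = 4 * σ.o 0 := by
      rw [natCard_centralizer_subtype, ← σ.natCard_pair 0]
      congr 1
      refine congrArg (fun K : Subgroup G => (K : Type u)) ?_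
      ext x
      rw [Subgroup.mem_inf, mem_pair, ← hS]
      constructor
      · rintro ⟨-, hx⟩
        rw [mem_centralizer_iff] at hx
        exact ⟨(hx _ ⟨f (r 1), ⟨r 1, rfl⟩, hfv _⟩).symm, (hx _ ⟨f (sr 0), ⟨sr 0, rfl⟩, hfv _⟩).symm⟩
      · rintro ⟨hxz, hxa⟩
        obtain ⟨p, hp, y, hy, rfl⟩ := σ.exists_split_pair hxz hxa
        refine ⟨mem_centralizer_of_commute ((σ.commute_f_of_pair hp hd).mul_left
          (σ.comm_U hy.1 hd.1)), mem_centralizer_iff.2 ?_⟩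
        rintro _ ⟨_, ⟨q, rfl⟩, rfl⟩
        rw [hfv]
        have key : ∀ p : DihedralGroup (2 ^ 2), p * sr 0 = sr 0 * p → ∀ q,
            fourHom q * p = p * fourHom q := by decide
        rw [← mul_assoc, ← map_mul, key p hp q, map_mul, mul_assoc,
          (σ.commute_f_of_pair (fourHom_commute q) hy).eq, mul_assoc]
    rw [c1, c2, ← hn, σ.natCard_U] at hα
    have h0 : (0 : ℚ) < σ.o 0 := by exact_mod_cast σ.o_pos 0
    have h1 : (0 : ℚ) < σ.o 1 := by exact_mod_cast σ.o_pos 1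
    have : (n : ℚ) = 8 * α * (σ.o 1 : ℚ) ^ 2 := by
      push_cast at hα
      field_simp at hα
      linear_combination hα
    have hl : ((3 * σ.o 1 ^ 2 : ℕ) : ℚ) ≤ (n : ℚ) := by
      rw [this]; push_cast
      nlinarith [sq_nonneg (σ.o 1 : ℚ)]
    have hu : (n : ℚ) ≤ ((15 * σ.o 1 ^ 2 : ℕ) : ℚ) := by
      rw [this]; push_cast
      nlinarith [sq_nonneg (σ.o 1 : ℚ)]
    exact ⟨by exact_mod_cast hl, by exact_mod_cast hu⟩
  refine ⟨_, n, hNodd, rfl, rfl, hi, hn, hlow.1, hlow.2, ?_⟩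
  refine CfsgLib.Perm.two_mul_card_dvd_factorial_index ?_ _ ?_
  · intro h
    have h' : σ.w * σ.s 0 * σ.w⁻¹ = σ.s 0 := conj_eq_of_commute (h.is_comm.comm _ _)
    rw [conj_w_s] at h'
    exact absurd (sr.inj (σ.inj h')) (by decide)
  · intro htop
    have hnorm : (zpowers d).Normal := by
      refine ⟨fun y hy x => ?_⟩
      obtain ⟨k, rfl⟩ := mem_zpowers_iff.1 hy
      rw [← conj_zpow]
      rcases (htop ▸ mem_top x : x ∈ pm d) with e | e <;> rw [e]
      · exact zpow_mem (mem_zpowers d) k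
      · exact zpow_mem (inv_mem (mem_zpowers d)) k
    rcases hnorm.eq_bot_or_eq_top with e | e
    · exact hd1 (zpowers_eq_bot.1 e)
    · obtain ⟨k, hk⟩ := mem_zpowers_iff.1 (e.symm ▸ mem_top σ.w : σ.w ∈ zpowers d)
      have h1 := σ.w_inverts hd.1
      rw [conj_eq_of_commute (hk ▸ (Commute.refl d).zpow_left k)] at h1
      exact hd1 (CfsgLib.GW.eq_one_of_inv_self (σ.odd_orderOf hd.1) h1.symm)

end Dat

end CfsgLib.Recog.SmallCentralizer
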