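import Cfsg.Agent.Lib.Recog.SmallCentralizer.OddPart
import Cfsg.Agent.Lib.GW.OddPart

/-!
# One four-group with odd centraliser

When only one of the two four-groups has odd elements in its centraliser, the whole odd part `U`
of the centraliser of an involution is centralised by every involution commuting with one of its
non-trivial elements. The centraliser of `U` contains three or fifteen involutions.
-/

set_option autoImplicit false
set_option linter.unusedSectionVars false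

namespace CfsgLib.Recog.SmallCentralizer

open Subgroup DihedralGroup
open CfsgLib.Signalizer (involution_sq involution_inv involution_ne_one orderOf_eq_two_of orderOf_conj)
open CfsgLib.GW (commute_of_mem_centralizer mem_centralizer_of_commute conj_eq_of_commute
  commute_of_conj_eq Rot)

universe u

variable {G : Type u} [Group G]

theorem commute_conj_iff {g x y : G} : Commute (g * x * g⁻¹) (g * y * g⁻¹) ↔ Commute x y := by
  refine ⟨fun h => ?_, conj_commute⟩
  have := conj_commute (g := g⁻¹) h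
  simpa [mul_assoc] using this

/-- An element of order dividing an odd number is a power of its square. -/
theorem exists_sqrt {x : G} (h : Odd (orderOf x)) : ∃ k : ℕ, (x ^ k) ^ 2 = x := by
  obtain ⟨l, hl⟩ := h
  refine ⟨l + 1, ?_⟩
  rw [← pow_mul, show (l + 1) * 2 = orderOf x + 1 by omega, pow_succ, pow_orderOf_eq_one, one_mul]

namespace Dat

/-- The involutions centralising `U`. -/
def I (σ : Dat G) : Set G := {v | orderOf v = 2 ∧ ∀ u ∈ σ.U, Commute v u}

/-- The normaliser of `U`. -/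
noncomputable def M (σ : Dat G) : Subgroup G := normalizer (σ.U : Set G)

end Dat

/-- The second four-group has trivial odd centraliser; the first has at least five elements. -/
structure OneSided (σ : Dat G) : Prop where
  one : σ.o 1 = 1
  five : 5 ≤ σ.o 0

namespace OneSided

variable [Finite G] [IsSimpleGroup G] {σ : Dat G} (h : OneSided σ)

include h

theorem U_eq : σ.D 0 = σ.U := by
  refine eq_of_le_of_card_ge inf_le_left ?_
  rw [σ.natCard_U, h.one, mul_one]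
  exact le_rfl

theorem mem_D {u : G} (hu : u ∈ σ.U) : u ∈ σ.D 0 := h.U_eq.symm ▸ hu

theorem natCard_U : Nat.card σ.U = σ.o 0 := by rw [σ.natCard_U, h.one, mul_one]

theorem exists_ne_one : ∃ d ∈ σ.U, d ≠ 1 := by
  have : Nontrivial σ.U := Finite.one_lt_card_iff_nontrivial.1
    (by rw [h.natCard_U]; have := h.five; omega)
  obtain ⟨⟨d, hd⟩, hne⟩ := exists_ne (1 : σ.U)
  exact ⟨d, hd, fun e => hne (Subtype.ext e)⟩

theorem b_inverts {u : G} (hu : u ∈ σ.U) : σ.s 1 * u * (σ.s 1)⁻¹ = u⁻¹ := by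
  have := σ.s_conj_of_mem (h.mem_D hu)
  rwa [zero_add] at this

theorem z_mem_I : σ.z ∈ σ.I := ⟨σ.orderOf_z, fun _ hu => (σ.mem_U.1 hu).1.symm⟩

theorem s_zero_mem_I : σ.s 0 ∈ σ.I :=
  ⟨σ.orderOf_s 0, fun _ hu => (σ.mem_D.1 (h.mem_D hu)).2.2.symm⟩

theorem za_mem_I : σ.z * σ.s 0 ∈ σ.I :=
  ⟨by rw [σ.z_mul_s]; exact σ.orderOf_s _,
    fun u hu => (h.z_mem_I.2 u hu).mul_left (h.s_zero_mem_I.2 u hu)⟩

section Fixed

variable {d : G} (hd : d ∈ σ.U) (hd1 : d ≠ 1)

include hd hd1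

theorem z_mem_invs : σ.z ∈ invs (centralizer ({d} : Set G)) :=
  ⟨σ.orderOf_z, mem_centralizer_of_commute (h.z_mem_I.2 d hd)⟩

theorem natCard_invs_le : Nat.card (invs (centralizer ({d} : Set G))) ≤ 15 := by
  obtain ⟨N, n, -, -, hn, -, -, -, hn15, -⟩ := σ.exists_index (h.mem_D hd) hd1
  rw [h.one, one_pow, mul_one] at hn15
  exact hn ▸ hn15

/-- Involutions commuting with `z` and `d` lie in the four-group. -/
theorem cases_of_commute_z {v : G} (hv : v ∈ invs (centralizer ({d} : Set G)))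
    (hvz : Commute v σ.z) : v = σ.z ∨ v = σ.s 0 ∨ v = σ.z * σ.s 0 := by
  obtain ⟨p, y, hy, rfl⟩ := σ.exists_split hvz
  have hyd : Commute y d := σ.comm_U hy hd
  have hp : p * sr 0 = sr 0 * p := (σ.commute_f_iff (h.mem_D hd) hd1 p).1 (by
    have := (commute_of_mem_centralizer hv.2).mul_left hyd.inv_left
    rwa [mul_inv_cancel_right] at this)
  have hc : Commute (σ.f p) y := σ.commute_f_of_pair hp (h.mem_D hy)
  have h2 := involution_sq hv.1
  rw [show σ.f p * y * (σ.f p * y) = σ.f p * (y * σ.f p) * y by group, ← hc.eq,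
    show σ.f p * (σ.f p * y) * y = σ.f (p * p) * (y * y) by rw [map_mul]; group] at h2
  obtain ⟨hpp, hyy⟩ := σ.f_mul_inj (mul_mem hy hy) (one_mem _) (q := 1)
    (h2.trans (by rw [map_one, mul_one]))
  obtain rfl : y = 1 :=
    CfsgLib.GW.eq_one_of_inv_self (σ.odd_orderOf hy) (inv_eq_of_mul_eq_one_right hyy)
  have key : ∀ p : DihedralGroup (2 ^ 2), p * sr 0 = sr 0 * p →
      p = 1 ∨ p = r 2 ∨ p = sr 0 ∨ p = r 2 * sr 0 := by decide
  rw [mul_one] at hv ⊢
  rcases key p hp with rfl | rfl | rfl | rfl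
  · exact absurd hv.1 (by rw [map_one, orderOf_one]; norm_num)
  · exact Or.inl rfl
  · exact Or.inr (Or.inl rfl)
  · exact Or.inr (Or.inr (map_mul σ.f _ _))

theorem exists_conj_z {v : G} (hv : v ∈ invs (centralizer ({d} : Set G))) :
    ∃ x ∈ centralizer ({d} : Set G), x * σ.z * x⁻¹ = v := by
  obtain ⟨g, hg⟩ := σ.exists_rot
  exact σ.exists_conj_z_cd (h.mem_D hd) hd1 le_rfl (h.z_mem_invs hd hd1).2
    (mem_centralizer_of_commute (h.s_zero_mem_I.2 d hd))
    (mem_centralizer_of_commute (σ.rot_commute hg (h.mem_D hd))) hg hv.2 hv.1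

theorem conj_invs {x v : G} (hx : x ∈ centralizer ({d} : Set G))
    (hv : v ∈ invs (centralizer ({d} : Set G))) : x * v * x⁻¹ ∈ invs (centralizer ({d} : Set G)) :=
  ⟨by rw [orderOf_conj]; exact hv.1, mul_mem (mul_mem hx hv.2) (inv_mem hx)⟩

theorem comm_trans {v u t : G} (hv : v ∈ invs (centralizer ({d} : Set G)))
    (hu : u ∈ invs (centralizer ({d} : Set G))) (ht : t ∈ invs (centralizer ({d} : Set G)))
    (h1 : Commute v u) (h2 : Commute u t) : Commute v t := by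
  obtain ⟨x, hx, rfl⟩ := h.exists_conj_z hd hd1 hu
  have key : ∀ q ∈ invs (centralizer ({d} : Set G)), Commute q (x * σ.z * x⁻¹) →
      ∃ p : DihedralGroup (2 ^ 2), p * sr 0 = sr 0 * p ∧ q = x * σ.f p * x⁻¹ := by
    intro q hq hqc
    have hq' := h.conj_invs hd hd1 (inv_mem hx) hq
    rw [inv_inv] at hq'
    have hc : Commute (x⁻¹ * q * x) σ.z := by
      have := conj_commute (g := x⁻¹) hqc
      simpa [mul_assoc] using this
    rcases h.cases_of_commute_z hd hd1 hq' hc with e | e | e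
    · exact ⟨r 2, by decide, by rw [show σ.f (r 2) = x⁻¹ * q * x from e.symm]; group⟩
    · exact ⟨sr 0, rfl, by rw [show σ.f (sr 0) = x⁻¹ * q * x from e.symm]; group⟩
    · exact ⟨r 2 * sr 0, by decide,
        by rw [show σ.f (r 2 * sr 0) = x⁻¹ * q * x from (map_mul σ.f _ _).trans e.symm]; group⟩
  obtain ⟨p, hp, rfl⟩ := key v hv h1
  obtain ⟨q, hq, rfl⟩ := key t ht h2.symm
  refine conj_commute ?_
  have keyd : ∀ p : DihedralGroup (2 ^ 2), p * sr 0 = sr 0 * p → ∀ q, q * sr 0 = sr 0 * q →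
      p * q = q * p := by decide
  show σ.f p * σ.f q = σ.f q * σ.f p
  rw [← map_mul, ← map_mul, keyd p hp q hq]

theorem comm_of_conj {y v : G} (hy : y ∈ invs (centralizer ({d} : Set G)))
    (hv : v ∈ invs (centralizer ({d} : Set G))) (hc : Commute (y * v * y⁻¹) v) : Commute y v := by
  by_cases e : y * v * y⁻¹ = v
  · exact commute_of_conj_eq e
  set t := y * v * y⁻¹ * v with ht
  have hv2 := involution_sq hv.1
  have hyi := involution_inv hy.1
  have ht1 : t ≠ 1 := fun e1 => e (by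
    rw [ht, ← hv2] at e1; exact mul_right_cancel e1)
  have htI : t ∈ invs (centralizer ({d} : Set G)) := by
    refine ⟨orderOf_eq_two_of ht1 ?_, mul_mem (mul_mem (mul_mem hy.2 hv.2) (inv_mem hy.2)) hv.2⟩
    rw [ht, show y * v * y⁻¹ * v * (y * v * y⁻¹ * v) = y * v * y⁻¹ * (v * (y * v * y⁻¹)) * v by group,
      ← hc.eq, show y * v * y⁻¹ * (y * v * y⁻¹ * v) * v = y * (v * v) * y⁻¹ * (v * v) by group, hv2]
    group
  have hyt : Commute y t := commute_of_conj_eq (by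
    calc y * t * y⁻¹ = (y * y) * v * (y * y)⁻¹ * (y * v * y⁻¹) := by rw [ht]; group
      _ = v * (y * v * y⁻¹) := by rw [involution_sq hy.1]; group
      _ = t := hc.symm.eq)
  exact h.comm_trans hd hd1 hy htI hv hyt (hc.mul_left (Commute.refl v))

theorem four_mem_invs {p : DihedralGroup (2 ^ 2)} (hp : p * sr 0 = sr 0 * p) (hp1 : p ≠ 1) :
    σ.f p ∈ invs (centralizer ({d} : Set G)) ∧ Commute (σ.f p) σ.z := by
  refine ⟨⟨?_, mem_centralizer_of_commute (σ.commute_f_of_pair hp (h.mem_D hd))⟩, σ.commute_z p⟩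
  have key : ∀ p : DihedralGroup (2 ^ 2), p * sr 0 = sr 0 * p → p * p = 1 := by decide
  rw [σ.orderOf_f]
  exact orderOf_eq_two_of hp1 (key p hp)

/-- The other involutions form a single orbit of the four-group on commuting triples. -/
theorem count {v : G} (hv : v ∈ invs (centralizer ({d} : Set G))) (hvz : ¬ Commute v σ.z) :
    Nat.card (invs (centralizer ({d} : Set G))) = 15 ∧
      ∀ t ∈ invs (centralizer ({d} : Set G)), ¬ Commute t σ.z →
        ∃ p : DihedralGroup (2 ^ 2), p * sr 0 = sr 0 * p ∧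
          Commute t (σ.f p * v * (σ.f p)⁻¹) := by
  classical
  set X := centralizer ({d} : Set G) with hX
  set T : Set G := {t | t ∈ invs X ∧ ¬ Commute t σ.z} with hT
  obtain ⟨x, hx, hxv⟩ := h.exists_conj_z hd hd1 hv
  set P := {p : DihedralGroup (2 ^ 2) // p * sr 0 = sr 0 * p} with hP
  set Q := {q : DihedralGroup (2 ^ 2) // q * sr 0 = sr 0 * q ∧ q ≠ 1} with hQ
  have hin : ∀ q : Q, x * σ.f q.1 * x⁻¹ ∈ T := by
    intro q
    obtain ⟨hq, hqz⟩ := h.four_mem_invs hd hd1 q.2.1 q.2.2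
    refine ⟨h.conj_invs hd hd1 hx hq, fun hc => hvz ?_⟩
    refine h.comm_trans hd hd1 hv (h.conj_invs hd hd1 hx hq) (h.z_mem_invs hd hd1) ?_ hc
    rw [← hxv]
    exact conj_commute hqz.symm
  have hfp : ∀ p : P, σ.f p.1 ∈ X := fun p =>
    mem_centralizer_of_commute (σ.commute_f_of_pair p.2 (h.mem_D hd))
  let φ : P × Q → T := fun k => ⟨σ.f k.1.1 * (x * σ.f k.2.1 * x⁻¹) * (σ.f k.1.1)⁻¹,
    h.conj_invs hd hd1 (hfp k.1) (hin k.2).1, fun hc => (hin k.2).2 (by
      refine (commute_conj_iff (g := σ.f k.1.1)).1 ?_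
      rwa [conj_eq_of_commute (σ.commute_z k.1.1)])⟩
  have hinj : Function.Injective φ := by
    rintro ⟨p, q⟩ ⟨p', q'⟩ he
    have he' : σ.f p.1 * (x * σ.f q.1 * x⁻¹) * (σ.f p.1)⁻¹ =
        σ.f p'.1 * (x * σ.f q'.1 * x⁻¹) * (σ.f p'.1)⁻¹ := congrArg Subtype.val he
    by_cases hpp : p.1 = p'.1
    · rw [hpp] at he'
      have := σ.inj (mul_left_cancel (mul_right_cancel (mul_left_cancel (mul_right_cancel he'))))
      exact Prod.ext (Subtype.ext hpp) (Subtype.ext this)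
    exfalso
    set k : DihedralGroup (2 ^ 2) := p'.1⁻¹ * p.1 with hk
    have hk0 : k * sr 0 = sr 0 * k := by
      exact ((show Commute p'.1 (sr 0) from p'.2).inv_left.mul_left p.2).eq
    have hk1 : k ≠ 1 := fun e => hpp (inv_mul_eq_one.1 e).symm
    obtain ⟨hkI, hkz⟩ := h.four_mem_invs hd hd1 hk0 hk1
    have hconj : σ.f k * (x * σ.f q.1 * x⁻¹) * (σ.f k)⁻¹ = x * σ.f q'.1 * x⁻¹ := by
      rw [hk, map_mul, map_inv]
      calc (σ.f p'.1)⁻¹ * σ.f p.1 * (x * σ.f q.1 * x⁻¹) * ((σ.f p'.1)⁻¹ * σ.f p.1)⁻¹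
          = (σ.f p'.1)⁻¹ * (σ.f p.1 * (x * σ.f q.1 * x⁻¹) * (σ.f p.1)⁻¹) * σ.f p'.1 := by group
        _ = _ := by rw [he']; group
    have hc : Commute (σ.f k * (x * σ.f q.1 * x⁻¹) * (σ.f k)⁻¹) (x * σ.f q.1 * x⁻¹) := by
      rw [hconj]
      refine conj_commute ?_
      have keyd : ∀ p : DihedralGroup (2 ^ 2), p * sr 0 = sr 0 * p → ∀ q, q * sr 0 = sr 0 * q →
          p * q = q * p := by decide
      show σ.f q'.1 * σ.f q.1 = σ.f q.1 * σ.f q'.1
      rw [← map_mul, ← map_mul, keyd _ q'.2.1 _ q.2.1]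
    have h1 := h.comm_of_conj hd hd1 hkI (hin q).1 hc
    exact (hin q).2 (h.comm_trans hd hd1 (hin q).1 hkI (h.z_mem_invs hd hd1) h1.symm hkz)
  have h12 : Nat.card (P × Q) = 12 := by
    rw [Nat.card_eq_fintype_card]
    show Fintype.card ({p : DihedralGroup (2 ^ 2) // p * sr 0 = sr 0 * p} ×
      {q : DihedralGroup (2 ^ 2) // q * sr 0 = sr 0 * q ∧ q ≠ 1}) = 12
    decide
  have hn15 : Nat.card (invs X) ≤ 15 := h.natCard_invs_le hd hd1
  have hsplit : invs X = T ∪ {σ.z, σ.s 0, σ.z * σ.s 0} := by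
    ext t
    constructor
    · intro ht
      by_cases hc : Commute t σ.z
      · exact Or.inr (by simpa using h.cases_of_commute_z hd hd1 ht hc)
      · exact Or.inl ⟨ht, hc⟩
    · rintro (ht | ht)
      · exact ht.1
      · rcases ht with rfl | rfl | rfl
        · exact h.z_mem_invs hd hd1
        · exact ⟨h.s_zero_mem_I.1, mem_centralizer_of_commute (h.s_zero_mem_I.2 d hd)⟩
        · exact ⟨h.za_mem_I.1, mem_centralizer_of_commute (h.za_mem_I.2 d hd)⟩
  have hdisj : Disjoint T {σ.z, σ.s 0, σ.z * σ.s 0} := by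
    rw [Set.disjoint_left]
    rintro t ht (rfl | rfl | rfl)
    · exact ht.2 (Commute.refl _)
    · exact ht.2 (σ.commute_s_z 0)
    · exact ht.2 ((Commute.refl σ.z).mul_left (σ.commute_s_z 0))
  have hthree : ({σ.z, σ.s 0, σ.z * σ.s 0} : Set G).ncard = 3 :=
    Set.ncard_eq_three.2 ⟨_, _, _, (σ.s_ne_z 0).symm,
      fun e => involution_ne_one (σ.orderOf_s 0) (mul_eq_left.1 e.symm),
      fun e => involution_ne_one σ.orderOf_z (mul_eq_right.1 e.symm), rfl⟩
  have hcard : Nat.card (invs X) = Nat.card T + 3 := by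
    rw [Nat.card_coe_set_eq, Nat.card_coe_set_eq, hsplit,
      Set.ncard_union_eq hdisj (Set.toFinite _) (Set.toFinite _), hthree]
  have hle : Nat.card (P × Q) ≤ Nat.card T := Nat.card_le_card_of_injective φ hinj
  have hbij : Function.Bijective φ := by
    refine (Nat.bijective_iff_injective_and_card φ).2 ⟨hinj, ?_⟩
    omega
  refine ⟨by omega, fun t ht htz => ?_⟩
  obtain ⟨⟨p, q⟩, hpq⟩ := hbij.surjective ⟨t, ht, htz⟩
  refine ⟨p.1, p.2, ?_⟩
  rw [show t = σ.f p.1 * (x * σ.f q.1 * x⁻¹) * (σ.f p.1)⁻¹ from (congrArg Subtype.val hpq).symm,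
    ← hxv]
  exact conj_commute (conj_commute (σ.commute_z q.1))

theorem card_eq_three_or :
    Nat.card (invs (centralizer ({d} : Set G))) = 3 ∧
        (∀ v ∈ invs (centralizer ({d} : Set G)), v = σ.z ∨ v = σ.s 0 ∨ v = σ.z * σ.s 0) ∨
      Nat.card (invs (centralizer ({d} : Set G))) = 15 := by
  classical
  by_cases hex : ∃ v ∈ invs (centralizer ({d} : Set G)), ¬ Commute v σ.z
  · obtain ⟨v, hv, hvz⟩ := hex
    exact Or.inr (h.count hd hd1 hv hvz).1
  push Not at hex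
  refine Or.inl ⟨?_, fun v hv => h.cases_of_commute_z hd hd1 hv (hex v hv)⟩
  have e : invs (centralizer ({d} : Set G)) = {σ.z, σ.s 0, σ.z * σ.s 0} := by
    ext t
    constructor
    · intro ht; simpa using h.cases_of_commute_z hd hd1 ht (hex t ht)
    · rintro (rfl | rfl | rfl)
      · exact h.z_mem_invs hd hd1
      · exact ⟨h.s_zero_mem_I.1, mem_centralizer_of_commute (h.s_zero_mem_I.2 d hd)⟩
      · exact ⟨h.za_mem_I.1, mem_centralizer_of_commute (h.za_mem_I.2 d hd)⟩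
  rw [Nat.card_coe_set_eq, e]
  exact Set.ncard_eq_three.2 ⟨_, _, _, (σ.s_ne_z 0).symm,
    fun e => involution_ne_one (σ.orderOf_s 0) (mul_eq_left.1 e.symm),
    fun e => involution_ne_one σ.orderOf_z (mul_eq_right.1 e.symm), rfl⟩

/-- `U` preserves the commuting triples. -/
theorem commute_conj_of_count {v u : G} (hv : v ∈ invs (centralizer ({d} : Set G)))
    (hvz : ¬ Commute v σ.z) (hu : u ∈ σ.U) : Commute (u * v * u⁻¹) v := by
  obtain ⟨-, hcov⟩ := h.count hd hd1 hv hvz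
  set X := centralizer ({d} : Set G) with hX
  have hUX : ∀ u ∈ σ.U, u ∈ X := fun u hu => mem_centralizer_of_commute (σ.comm_U hu hd)
  have hfx : ∀ p : DihedralGroup (2 ^ 2), p * sr 0 = sr 0 * p → ∀ u ∈ σ.U, Commute (σ.f p) u :=
    fun p hp u hu => σ.commute_f_of_pair hp (h.mem_D hu)
  have hsq : ∀ u ∈ σ.U, Commute (u ^ 2 * v * (u ^ 2)⁻¹) v := by
    intro u hu
    have hu' : u * v * u⁻¹ ∈ invs X := h.conj_invs hd hd1 (hUX u hu) hv
    obtain ⟨p, hp, hc⟩ := hcov _ hu' (fun hc => hvz ((commute_conj_iff (g := u)).1 (by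
      rwa [conj_eq_of_commute (σ.mem_U.1 hu).1])))
    set c := σ.f p with hcdef
    have hcu : Commute c u := hfx p hp u hu
    have h2 : c * c = 1 := by
      have key : ∀ p : DihedralGroup (2 ^ 2), p * sr 0 = sr 0 * p → p * p = 1 := by decide
      rw [hcdef, ← map_mul, key p hp, map_one]
    have hcX : c ∈ X := mem_centralizer_of_commute (hfx p hp d hd)
    have e1 : Commute (u ^ 2 * v * (u ^ 2)⁻¹) (c * (u * v * u⁻¹) * c⁻¹) := by
      have := conj_commute (g := u) hc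
      rwa [show u * (u * v * u⁻¹) * u⁻¹ = u ^ 2 * v * (u ^ 2)⁻¹ by rw [pow_two]; group,
        show u * (c * v * c⁻¹) * u⁻¹ = (u * c) * v * (u * c)⁻¹ by group, ← hcu.eq,
        show c * u * v * (c * u)⁻¹ = c * (u * v * u⁻¹) * c⁻¹ by group] at this
    have e2 : Commute (c * (u * v * u⁻¹) * c⁻¹) v := by
      have := conj_commute (g := c) hc
      rwa [show c * (c * v * c⁻¹) * c⁻¹ = (c * c) * v * (c * c)⁻¹ by group, h2, one_mul, inv_one,
        mul_one] at this
    exact h.comm_trans hd hd1 (h.conj_invs hd hd1 (hUX _ (pow_mem hu 2)) hv)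
      (h.conj_invs hd hd1 hcX hu') hv e1 e2
  obtain ⟨k, hk⟩ := exists_sqrt (σ.odd_orderOf hu)
  have := hsq _ (pow_mem hu k)
  rwa [hk] at this
/-- Every involution commuting with `d` centralises `U`. -/
theorem mem_I_of_invs {v : G} (hv : v ∈ invs (centralizer ({d} : Set G))) : v ∈ σ.I := by
  refine ⟨hv.1, ?_⟩
  by_cases hvz : Commute v σ.z
  · rcases h.cases_of_commute_z hd hd1 hv hvz with rfl | rfl | rfl
    · exact h.z_mem_I.2
    · exact h.s_zero_mem_I.2
    · exact h.za_mem_I.2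
  set X := centralizer ({d} : Set G) with hX
  have hUX : ∀ u ∈ σ.U, u ∈ X := fun u hu => mem_centralizer_of_commute (σ.comm_U hu hd)
  intro u hu
  have hc := h.commute_conj_of_count hd hd1 hv hvz hu
  set t := u * v * u⁻¹ with ht
  suffices t = v from (commute_of_conj_eq this).symm
  by_contra hne
  set x := t * v with hx
  have htI : t ∈ invs X := h.conj_invs hd hd1 (hUX u hu) hv
  have hxI : x ∈ invs X := by
    refine ⟨orderOf_eq_two_of (fun e => hne ?_) ?_, mul_mem htI.2 hv.2⟩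
    · rw [hx, ← involution_sq hv.1] at e; exact mul_right_cancel e
    · rw [hx, show t * v * (t * v) = t * (v * t) * v by group, ← hc.eq,
        show t * (t * v) * v = (t * t) * (v * v) by group, involution_sq htI.1, involution_sq hv.1,
        one_mul]
  have hxv : Commute x v := hc.mul_left (Commute.refl v)
  have hvzv : v * σ.z * v⁻¹ ∈ invs X := h.conj_invs hd hd1 hv.2 (h.z_mem_invs hd hd1)
  have hq : Commute (u⁻¹ * (v * σ.z * v⁻¹) * u) (v * σ.z * v⁻¹) := by
    by_cases hz' : Commute (v * σ.z * v⁻¹) σ.z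
    · exact absurd (h.comm_of_conj hd hd1 hv (h.z_mem_invs hd hd1) hz') hvz
    have := h.commute_conj_of_count hd hd1 hvzv hz' (inv_mem hu)
    rwa [inv_inv] at this
  have hxz : Commute (x * σ.z * x⁻¹) σ.z := by
    have e : x * σ.z * x⁻¹ = u * (v * (u⁻¹ * (v * σ.z * v⁻¹) * u) * v⁻¹) * u⁻¹ := by
      rw [hx, ht]; group
    have e2 : u * (v * (v * σ.z * v⁻¹) * v⁻¹) * u⁻¹ = σ.z := by
      rw [show v * (v * σ.z * v⁻¹) * v⁻¹ = (v * v) * σ.z * (v * v)⁻¹ by group, involution_sq hv.1,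
        one_mul, inv_one, mul_one]
      exact conj_eq_of_commute (σ.mem_U.1 hu).1
    have := conj_commute (g := u) (conj_commute (g := v) hq)
    rwa [← e, e2] at this
  exact hvz (h.comm_trans hd hd1 hv hxI (h.z_mem_invs hd hd1) hxv.symm
    (h.comm_of_conj hd hd1 hxI (h.z_mem_invs hd hd1) hxz))

end Fixed

theorem mem_I_iff {d : G} (hd : d ∈ σ.U) (hd1 : d ≠ 1) {v : G} :
    v ∈ σ.I ↔ v ∈ invs (centralizer ({d} : Set G)) :=
  ⟨fun hv => ⟨hv.1, mem_centralizer_of_commute (hv.2 d hd)⟩, h.mem_I_of_invs hd hd1⟩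

theorem conj_mem_U_of_normalizer {x u : G} (hx : x ∈ σ.M) (hu : u ∈ σ.U) : x * u * x⁻¹ ∈ σ.U :=
  (mem_normalizer_iff.1 hx u).1 hu

theorem pm_eq {d : G} (hd : d ∈ σ.U) (hd1 : d ≠ 1) : σ.M = Dat.pm d := by
  refine le_antisymm (fun x hx => σ.conj_mem_U_cases (h.mem_D hd) hd1
    (h.conj_mem_U_of_normalizer hx hd)) ?_
  have hcent : ∀ x : G, Commute x d → x ∈ σ.M := by
    intro x hxd
    have hI : x * σ.z * x⁻¹ ∈ σ.I := h.mem_I_of_invs hd hd1
      (h.conj_invs hd hd1 (mem_centralizer_of_commute hxd) (h.z_mem_invs hd hd1))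
    rw [← inv_inv x]
    refine inv_mem ?_
    refine CfsgLib.GW.mem_normalizer_of_conj fun u hu => ?_
    refine σ.mem_U.2 ⟨(commute_conj_iff (g := x)).1 ?_, by rw [orderOf_conj]; exact σ.odd_orderOf hu⟩
    rw [show x * (x⁻¹ * u * x⁻¹⁻¹) * x⁻¹ = u by group]
    exact (hI.2 u hu).symm
  intro x hx
  rcases hx with hx | hx
  · exact hcent x (commute_of_conj_eq hx)
  · have hw : σ.w ∈ σ.M := CfsgLib.GW.mem_normalizer_of_conj fun u hu =>
      σ.conj_mem_U σ.commute_w_z hu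
    have := hcent (σ.w⁻¹ * x) (commute_of_conj_eq (by
      rw [show σ.w⁻¹ * x * d * (σ.w⁻¹ * x)⁻¹ = σ.w⁻¹ * (x * d * x⁻¹) * σ.w by group, hx,
        ← σ.w_inverts hd]
      group))
    have := mul_mem hw this
    rwa [mul_inv_cancel_left] at this

theorem cent_le_M {d x : G} (hd : d ∈ σ.U) (hd1 : d ≠ 1) (hx : Commute x d) : x ∈ σ.M := by
  rw [h.pm_eq hd hd1]
  exact Or.inl (conj_eq_of_commute hx)

theorem cz_le_M {x : G} (hx : Commute x σ.z) : x ∈ σ.M :=
  CfsgLib.GW.mem_normalizer_of_conj fun _ hu => σ.conj_mem_U hx hu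

theorem conj_mem_I {x v : G} (hx : x ∈ σ.M) (hv : v ∈ σ.I) : x * v * x⁻¹ ∈ σ.I := by
  refine ⟨by rw [orderOf_conj]; exact hv.1, fun u hu => ?_⟩
  refine (commute_conj_iff (g := x⁻¹)).1 ?_
  rw [show x⁻¹ * (x * v * x⁻¹) * x⁻¹⁻¹ = v by group]
  exact hv.2 _ (h.conj_mem_U_of_normalizer (inv_mem hx) hu)

/-- `U` has trivial intersection with its conjugates. -/
theorem mem_M_of_conj {u x : G} (hu : u ∈ σ.U) (hu1 : u ≠ 1) (hx : x * u * x⁻¹ ∈ σ.U) : x ∈ σ.M := by
  rw [h.pm_eq hu hu1]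
  exact σ.conj_mem_U_cases (h.mem_D hu) hu1 hx

/-- Elements of odd order normalising `U` centralise it. -/
theorem odd_commute {e u : G} (he : e ∈ σ.M) (ho : Odd (orderOf e)) (hu : u ∈ σ.U) : Commute e u := by
  by_cases hu1 : u = 1
  · rw [hu1]; exact Commute.one_right e
  rw [h.pm_eq hu hu1] at he
  rcases he with e1 | e1
  · exact commute_of_conj_eq e1
  · obtain ⟨k, hk⟩ := exists_sqrt ho
    rw [← hk, ← pow_mul, mul_comm, pow_mul]
    refine Commute.pow_left (commute_of_conj_eq ?_) k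
    rw [pow_two, show e * e * u * (e * e)⁻¹ = e * (e * u * e⁻¹) * e⁻¹ by group, e1, ← conj_inv,
      e1, inv_inv]

theorem outer_inverts {v u : G} (hv : v ∈ σ.M) (hvo : orderOf v = 2) (hvI : v ∉ σ.I) (hu : u ∈ σ.U) :
    v * u * v⁻¹ = u⁻¹ := by
  by_cases hu1 : u = 1
  · rw [hu1]; group
  rw [h.pm_eq hu hu1] at hv
  rcases hv with e1 | e1
  · exact absurd (h.mem_I_of_invs hu hu1
      ⟨hvo, mem_centralizer_of_commute (commute_of_conj_eq e1)⟩) hvI
  · exact e1

theorem exists_conj_I {v : G} (hv : v ∈ σ.I) : ∃ x ∈ σ.M, x * σ.z * x⁻¹ = v := by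
  obtain ⟨d, hd, hd1⟩ := h.exists_ne_one
  obtain ⟨x, hx, e⟩ := h.exists_conj_z hd hd1 ((h.mem_I_iff hd hd1).1 hv)
  exact ⟨x, h.cent_le_M hd hd1 (commute_of_mem_centralizer hx), e⟩

/-- The conjugation data of the index of `M`. -/
theorem exists_index :
    ∃ N n : ℕ, N = σ.M.index ∧ n = Nat.card σ.I ∧ σ.idx = N * n ∧
      Nat.card σ.M = 8 * σ.o 0 * n ∧ (n = 3 ∨ n = 15) := by
  obtain ⟨d, hd, hd1⟩ := h.exists_ne_one
  obtain ⟨N, n, -, hN, hn, hi, hc, -, -, -⟩ := σ.exists_index (h.mem_D hd) hd1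
  have hIeq : σ.I = invs (centralizer ({d} : Set G)) := Set.ext fun v => h.mem_I_iff hd hd1
  refine ⟨N, n, by rw [hN, h.pm_eq hd hd1], by rw [hIeq]; exact hn, hi, ?_, ?_⟩
  · rw [h.pm_eq hd hd1, σ.natCard_pm (h.mem_D hd) hd1, ← hc, h.natCard_U]; ring
  · rcases h.card_eq_three_or hd hd1 with h3 | h15
    · exact Or.inl (hn.trans h3.1)
    · exact Or.inr (hn.trans h15)

theorem sylow_le_M : (σ.S : Subgroup G) ≤ σ.M := by
  rw [← σ.range]
  rintro _ ⟨p, rfl⟩
  exact h.cz_le_M (σ.commute_z p)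

/-- The outer involutions of `M` form one class. -/
theorem exists_conj_outer {v : G} (hv : v ∈ σ.M) (hvo : orderOf v = 2) (hvI : v ∉ σ.I) :
    ∃ x ∈ σ.M, x * σ.s 1 * x⁻¹ = v := by
  have : Fact (Nat.Prime 2) := ⟨Nat.prime_two⟩
  have hvo' : orderOf (⟨v, hv⟩ : σ.M) = 2 := by rw [← Subgroup.orderOf_coe]; exact hvo
  have hQ : IsPGroup 2 (zpowers (⟨v, hv⟩ : σ.M)) :=
    IsPGroup.of_card (n := 1) (by rw [Nat.card_zpowers, hvo', pow_one])
  obtain ⟨k, hk⟩ := CfsgLib.TwoGroups.exists_conj_le_sylow (σ.S.subtype h.sylow_le_M) hQ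
  have h1 := hk (CfsgLib.TwoGroups.conj_mem_map_conj (mem_zpowers _))
  rw [Sylow.coe_subtype, mem_subgroupOf] at h1
  obtain ⟨p, hp⟩ := (σ.range ▸ h1 : ((k : G) * v * (k : G)⁻¹) ∈ σ.f.range)
  have hpo : orderOf (σ.f p) = 2 := by rw [hp, orderOf_conj]; exact hvo
  have hpI : σ.f p ∉ σ.I := fun hI => hvI (by
    have := h.conj_mem_I (inv_mem k.2) (hp ▸ hI)
    rwa [show (k : G)⁻¹ * ((k : G) * v * (k : G)⁻¹) * (k : G)⁻¹⁻¹ = v by group] at this)
  have key : ∀ p : DihedralGroup (2 ^ 2), p * p = 1 → p ≠ 1 →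
      p = r 2 ∨ p = sr 0 ∨ p = r 2 * sr 0 ∨ p = sr 1 ∨ p = sr 3 := by decide
  have hp2 : p * p = 1 ∧ p ≠ 1 := by
    rw [σ.orderOf_f] at hpo
    exact ⟨involution_sq hpo, involution_ne_one hpo⟩
  rcases key p hp2.1 hp2.2 with e | e | e | e | e <;> subst e
  · exact absurd h.z_mem_I hpI
  · exact absurd h.s_zero_mem_I hpI
  · exact absurd (show σ.f (r 2 * sr 0) ∈ σ.I from (map_mul σ.f _ _).symm ▸ h.za_mem_I) hpI
  · refine ⟨(k : G)⁻¹, inv_mem k.2, ?_⟩
    rw [show σ.s 1 = (k : G) * v * (k : G)⁻¹ from hp]; group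
  · refine ⟨(k : G)⁻¹ * σ.w⁻¹, mul_mem (inv_mem k.2) (inv_mem (h.cz_le_M σ.commute_w_z)), ?_⟩
    have e3 : σ.s 1 = σ.w * σ.s 3 * σ.w⁻¹ := by rw [σ.conj_w_s]; rfl
    rw [e3, show (k : G)⁻¹ * σ.w⁻¹ * (σ.w * σ.s 3 * σ.w⁻¹) * ((k : G)⁻¹ * σ.w⁻¹)⁻¹ =
      (k : G)⁻¹ * σ.s 3 * k by group, show σ.s 3 = (k : G) * v * (k : G)⁻¹ from hp]
    group

end OneSided

end CfsgLib.Recog.SmallCentralizer
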