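import Cfsg.Agent.Lib.Recog.SmallCentralizer.One

/-!
# Three involutions centralise `U`

The normaliser `M` of `U` then has too many involutions outside `C(U)` for the number of conjugates
of `U`.
-/

set_option autoImplicit false
set_option linter.unusedSectionVars false

namespace CfsgLib.Recog.SmallCentralizer

open Subgroup DihedralGroup MulAction
open CfsgLib.Signalizer (involution_sq involution_inv involution_ne_one orderOf_eq_two_of orderOf_conj)
open CfsgLib.GW (commute_of_mem_centralizer mem_centralizer_of_commute conj_eq_of_commute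
  commute_of_conj_eq eq_one_of_inv_self)

universe u

variable {G : Type u} [Group G]

theorem natCard_conj_mul (H : Subgroup G) {t : G} (ht : t ∈ H) :
    Nat.card {v | ∃ x ∈ H, x * t * x⁻¹ = v} * Nat.card (H ⊓ centralizer ({t} : Set G) : Subgroup G) =
      Nat.card H := by
  classical
  have e : {v | ∃ x ∈ H, x * t * x⁻¹ = v} =
      Subtype.val '' MulAction.orbit (ConjAct H) (⟨t, ht⟩ : H) := by
    ext v
    constructor
    · rintro ⟨x, hx, rfl⟩
      exact ⟨ConjAct.toConjAct ⟨x, hx⟩ • (⟨t, ht⟩ : H), ⟨_, rfl⟩, rfl⟩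
    · rintro ⟨_, ⟨c, rfl⟩, rfl⟩
      exact ⟨(ConjAct.ofConjAct c : H), (ConjAct.ofConjAct c).2, rfl⟩
  have h2 : Nat.card (MulAction.stabilizer (ConjAct H) (⟨t, ht⟩ : H)) =
      Nat.card (H ⊓ centralizer ({t} : Set G) : Subgroup G) := by
    rw [← Set.image_singleton (f := (Subtype.val : H → G)) (a := ⟨t, ht⟩),
      ← natCard_centralizer_subtype]
    exact Nat.card_congr ((ConjAct.toConjAct : H ≃* ConjAct H).symm.toEquiv.subtypeEquiv fun c => by
      rw [MulAction.mem_stabilizer_iff, ConjAct.smul_def, mul_inv_eq_iff_eq_mul,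
        mem_centralizer_singleton_iff]
      rfl)
  rw [e, Nat.card_image_of_injective Subtype.val_injective, ← h2, ← Nat.card_prod]
  exact Nat.card_congr (MulAction.orbitProdStabilizerEquivGroup (ConjAct H) _)

theorem smul_mk_eq_iff {M : Subgroup G} {v y : G} :
    v • (y : G ⧸ M) = (y : G ⧸ M) ↔ y⁻¹ * v * y ∈ M := by
  rw [MulAction.Quotient.smul_coe, eq_comm, QuotientGroup.eq, smul_eq_mul, mul_assoc]

theorem orbit_card_mul [Finite G] (K M : Subgroup G) (y : G) :
    Nat.card (orbit K (y : G ⧸ M)) * Nat.card {k : K // y⁻¹ * (k : G) * y ∈ M} = Nat.card K := by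
  classical
  rw [← Nat.card_prod]
  refine Nat.card_congr ((Equiv.prodCongr (Equiv.refl _) (Equiv.subtypeEquivRight fun k => ?_)).trans
    (MulAction.orbitProdStabilizerEquivGroup K (y : G ⧸ M)))
  rw [mem_stabilizer_iff]
  exact (smul_mk_eq_iff).symm

namespace OneSided

variable [Finite G] [IsSimpleGroup G] {σ : Dat G} (h : OneSided σ) (h3 : Nat.card σ.I = 3)

include h h3

theorem I_cases {v : G} (hv : v ∈ σ.I) : v = σ.z ∨ v = σ.s 0 ∨ v = σ.z * σ.s 0 := by
  obtain ⟨d, hd, hd1⟩ := h.exists_ne_one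
  have e : σ.I = invs (centralizer ({d} : Set G)) := Set.ext fun v => h.mem_I_iff hd hd1
  rcases h.card_eq_three_or hd hd1 with ⟨-, hall⟩ | h15
  · exact hall v (e ▸ hv)
  · rw [← e, h3] at h15; omega

theorem I_commute {v t : G} (hv : v ∈ σ.I) (ht : t ∈ σ.I) : Commute v t := by
  have hza : Commute σ.z (σ.s 0) := (σ.commute_s_z 0).symm
  have hzb : Commute σ.z (σ.z * σ.s 0) := (Commute.refl _).mul_right hza
  have hab : Commute (σ.s 0) (σ.z * σ.s 0) := hza.symm.mul_right (Commute.refl _)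
  rcases h.I_cases h3 hv with rfl | rfl | rfl <;> rcases h.I_cases h3 ht with rfl | rfl | rfl <;>
    first | exact Commute.refl _ | assumption | exact Commute.symm (by assumption)

/-- `C_M(b)` is a four-group. -/
theorem cent_b : σ.M ⊓ centralizer ({σ.s 1} : Set G) = centralizer ({σ.z, σ.s 1} : Set G) := by
  ext x
  rw [Subgroup.mem_inf, Dat.mem_pair]
  constructor
  · rintro ⟨hxM, hxb⟩
    refine ⟨?_, commute_of_mem_centralizer hxb⟩
    have hI := h.conj_mem_I hxM h.z_mem_I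
    have hc : Commute (x * σ.z * x⁻¹) (σ.s 1) := by
      have := conj_commute (g := x) (σ.commute_s_z 1).symm
      rwa [conj_eq_of_commute (commute_of_mem_centralizer hxb)] at this
    have hna : ¬ Commute (σ.s 0) (σ.s 1) := fun hc' => by
      have h' : σ.f (sr 0 * sr 1) = σ.f (sr 1 * sr 0) := by rw [map_mul, map_mul]; exact hc'
      exact absurd (σ.inj h') (by decide)
    rcases h.I_cases h3 hI with e | e | e <;> rw [e] at hc
    · exact commute_of_conj_eq e
    · exact absurd hc hna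
    · exact absurd (by
        have := (σ.commute_s_z 1).symm.inv_left.mul_left hc
        rwa [inv_mul_cancel_left] at this) hna
  · rintro ⟨h1, h2⟩
    exact ⟨h.cz_le_M h1, mem_centralizer_of_commute h2⟩

theorem natCard_cent_b : Nat.card (σ.M ⊓ centralizer ({σ.s 1} : Set G) : Subgroup G) = 4 := by
  rw [h.cent_b h3, σ.natCard_pair 1, h.one]

theorem s_one_not_mem_I : σ.s 1 ∉ σ.I := by
  intro hI
  rcases h.I_cases h3 hI with e | e | e
  · exact σ.s_ne_z 1 e
  · exact absurd (sr.inj (σ.inj e)) (by decide)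
  · rw [σ.z_mul_s] at e
    exact absurd (sr.inj (σ.inj e)) (by decide)

theorem natCard_outer :
    Nat.card {v | v ∈ σ.M ∧ orderOf v = 2 ∧ v ∉ σ.I} = 6 * σ.o 0 := by
  obtain ⟨N, n, -, hn, -, hM, -⟩ := h.exists_index
  have hbM : σ.s 1 ∈ σ.M := h.cz_le_M (σ.commute_s_z 1)
  have e : {v | v ∈ σ.M ∧ orderOf v = 2 ∧ v ∉ σ.I} = {v | ∃ x ∈ σ.M, x * σ.s 1 * x⁻¹ = v} := by
    ext v
    constructor
    · rintro ⟨h1, h2, h4⟩; exact h.exists_conj_outer h1 h2 h4
    · rintro ⟨x, hx, rfl⟩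
      refine ⟨mul_mem (mul_mem hx hbM) (inv_mem hx), by rw [orderOf_conj]; exact σ.orderOf_s 1,
        fun hI => h.s_one_not_mem_I h3 ?_⟩
      have := h.conj_mem_I (inv_mem hx) hI
      rwa [show x⁻¹ * (x * σ.s 1 * x⁻¹) * x⁻¹⁻¹ = σ.s 1 by group] at this
  have h1 := natCard_conj_mul σ.M hbM
  rw [h.natCard_cent_b h3, hM, hn, h3] at h1
  rw [e]
  omega

/-- An element of `U` moved into `M` is moved by an element of `M`. -/
theorem mem_M_of_conj_mem {u y : G} (hu : u ∈ σ.U) (hu1 : u ≠ 1) (hy : y * u * y⁻¹ ∈ σ.M) :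
    y ∈ σ.M := by
  classical
  obtain ⟨d, hd, hd1⟩ := h.exists_ne_one
  set e := y * u * y⁻¹ with he
  have heo : Odd (orderOf e) := by rw [orderOf_conj]; exact σ.odd_orderOf hu
  have hall : ∀ v ∈ σ.U, y * v * y⁻¹ ∈ σ.M := by
    intro v hv
    by_cases hv1 : v = 1
    · simp [hv1, one_mem]
    have hvu : Commute (y * v * y⁻¹) e := conj_commute (σ.comm_U hv hu)
    have hdy : Commute (y⁻¹ * d * y) u := by
      have := conj_commute (g := y⁻¹) (h.odd_commute hy heo hd).symm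
      rwa [inv_inv, show y⁻¹ * e * y = u by rw [he]; group] at this
    have hdo : Odd (orderOf (y⁻¹ * d * y)) := by
      have e' := orderOf_conj y⁻¹ d
      rw [inv_inv] at e'
      rw [e']; exact σ.odd_orderOf hd
    have hdv := h.odd_commute (h.cent_le_M hu hu1 hdy) hdo hv
    have h4 := conj_commute (g := y) hdv
    rw [show y * (y⁻¹ * d * y) * y⁻¹ = d by group] at h4
    exact h.cent_le_M hd hd1 h4.symm
  have hzI : ∀ v ∈ σ.U,
      (y * v * y⁻¹) * σ.z * (y * v * y⁻¹)⁻¹ ∈ ({σ.z, σ.s 0, σ.z * σ.s 0} : Finset G) :=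
    fun v hv => by simpa using h.I_cases h3 (h.conj_mem_I (hall v hv) h.z_mem_I)
  have hcard : ({σ.z, σ.s 0, σ.z * σ.s 0} : Finset G).card < Nat.card σ.U :=
    lt_of_le_of_lt Finset.card_le_three (by rw [h.natCard_U]; have := h.five; omega)
  have := Fintype.ofFinite σ.U
  rw [Nat.card_eq_fintype_card] at hcard
  obtain ⟨v, -, v', -, hne, heq⟩ := Finset.exists_ne_map_eq_of_card_lt_of_maps_to
    (s := (Finset.univ : Finset σ.U)) (f := fun v : σ.U =>
      (y * (v : G) * y⁻¹) * σ.z * (y * (v : G) * y⁻¹)⁻¹) (by rw [Finset.card_univ]; exact hcard)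
    (fun v _ => hzI v v.2)
  set q : G := (v' : G)⁻¹ * v with hq
  have hqU : q ∈ σ.U := mul_mem (inv_mem v'.2) v.2
  have hq1 : q ≠ 1 := fun e => hne (Subtype.ext (inv_mul_eq_one.1 e).symm)
  refine h.mem_M_of_conj hqU hq1 (σ.mem_U.2 ⟨commute_of_conj_eq ?_,
    by rw [orderOf_conj]; exact σ.odd_orderOf hqU⟩)
  rw [show y * q * y⁻¹ * σ.z * (y * q * y⁻¹)⁻¹ = (y * (v' : G) * y⁻¹)⁻¹ *
    ((y * (v : G) * y⁻¹) * σ.z * (y * (v : G) * y⁻¹)⁻¹) * (y * (v' : G) * y⁻¹) by rw [hq]; group,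
    show y * (v : G) * y⁻¹ * σ.z * (y * (v : G) * y⁻¹)⁻¹ =
      y * (v' : G) * y⁻¹ * σ.z * (y * (v' : G) * y⁻¹)⁻¹ from heq]
  group

/-- The stabiliser of two points has no elements of odd order. -/
theorem eq_one_of_odd {e y : G} (he : e ∈ σ.M) (hey : y⁻¹ * e * y ∈ σ.M) (ho : Odd (orderOf e))
    (hy : y ∉ σ.M) : e = 1 := by
  by_contra he1
  have hA : ∀ e : G, e ∈ σ.M → y⁻¹ * e * y ∈ σ.M → e ∈ σ.U → e = 1 := by
    intro e _ h2 h4
    by_contra hne
    have := h.mem_M_of_conj_mem h3 h4 hne (y := y⁻¹) (by rwa [inv_inv])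
    exact hy (inv_inv y ▸ inv_mem this)
  have heU : e ∉ σ.U := fun hU => he1 (hA e he hey hU)
  have hcz : ¬ Commute e σ.z := fun hc => heU (σ.mem_U.2 ⟨hc, ho⟩)
  have heI := fun v (hv : v ∈ σ.I) => h.conj_mem_I he hv
  have hswap : ∀ v t : G, e * v * e⁻¹ = t → e * t * e⁻¹ = v → e * v * e⁻¹ = v := by
    intro v t h1 h2
    obtain ⟨k, hk⟩ := exists_sqrt ho
    have hc : Commute (e ^ 2) v := commute_of_conj_eq (by
      rw [pow_two, show e * e * v * (e * e)⁻¹ = e * (e * v * e⁻¹) * e⁻¹ by group, h1, h2])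
    refine conj_eq_of_commute ?_
    rw [← hk, ← pow_mul, mul_comm, pow_mul]
    exact hc.pow_left k
  -- `e` permutes the three involutions cyclically
  obtain ⟨p, q, hp, hz1, hp1, hq1, hpq⟩ : ∃ p q : G, (p = σ.s 0 ∧ q = σ.z * σ.s 0 ∨
      p = σ.z * σ.s 0 ∧ q = σ.s 0) ∧ e * σ.z * e⁻¹ = p ∧ e * p * e⁻¹ = q ∧ e * q * e⁻¹ = σ.z ∧
      σ.z * p = q := by
    rcases h.I_cases h3 (heI _ h.z_mem_I) with e1 | e1 | e1
    · exact absurd (commute_of_conj_eq e1) hcz
    · rcases h.I_cases h3 (heI _ h.s_zero_mem_I) with e2 | e2 | e2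
      · exact absurd (commute_of_conj_eq (hswap _ _ e1 e2)) hcz
      · exact absurd (σ.s_ne_z 0).symm (not_not.2
          (mul_left_cancel (mul_right_cancel (e1.trans e2.symm))))
      · refine ⟨_, _, Or.inl ⟨rfl, rfl⟩, e1, e2, ?_, rfl⟩
        rw [show e * (σ.z * σ.s 0) * e⁻¹ = e * σ.z * e⁻¹ * (e * σ.s 0 * e⁻¹) by group, e1, e2,
          ← mul_assoc, ← (σ.commute_s_z 0).eq.symm, mul_assoc, involution_sq (σ.orderOf_s 0), mul_one]
    · have e2' : e * (σ.z * σ.s 0) * e⁻¹ = e * σ.z * e⁻¹ * (e * σ.s 0 * e⁻¹) := by group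
      rcases h.I_cases h3 (heI _ h.za_mem_I) with e2 | e2 | e2
      · exact absurd (commute_of_conj_eq (hswap _ _ e1 e2)) hcz
      · refine ⟨_, _, Or.inr ⟨rfl, rfl⟩, e1, e2, ?_, ?_⟩
        · rw [e1, e2] at e2'
          rw [eq_inv_mul_of_mul_eq e2'.symm, mul_inv_rev, involution_inv (σ.orderOf_s 0),
            involution_inv σ.orderOf_z, (σ.commute_s_z 0).eq, mul_assoc,
            involution_sq (σ.orderOf_s 0), mul_one]
        · rw [← mul_assoc, involution_sq σ.orderOf_z, one_mul]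
      · exact absurd (mul_left_cancel (mul_right_cancel (e1.trans e2.symm)))
          fun hh => involution_ne_one (σ.orderOf_s 0) (mul_eq_left.1 hh.symm)
  have he3 : e ^ 3 = 1 := by
    have hz3 : Commute (e ^ 3) σ.z := commute_of_conj_eq (by
      rw [pow_succ, pow_two, show e * e * e * σ.z * (e * e * e)⁻¹ =
        e * (e * (e * σ.z * e⁻¹) * e⁻¹) * e⁻¹ by group, hz1, hp1, hq1])
    refine hA _ (pow_mem he 3) ?_ (σ.mem_U.2 ⟨hz3, ho.of_dvd_nat (orderOf_pow_dvd 3)⟩)
    have := pow_mem hey 3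
    have e' : (y⁻¹ * e * y) ^ 3 = y⁻¹ * e ^ 3 * y := by
      have := conj_pow (a := y⁻¹) (b := e) (i := 3)
      rwa [inv_inv] at this
    rwa [e'] at this
  have hCodd : ∀ t : G, orderOf t = 2 → ¬ Commute t e := by
    intro t ht hte
    obtain ⟨x, hx⟩ := isConj_iff.1 (σ.one_class σ.z t σ.orderOf_z ht)
    have hu : x⁻¹ * e * x ∈ σ.U := σ.mem_U.2 ⟨by
      have := conj_commute (g := x⁻¹) hte.symm
      rwa [inv_inv, show x⁻¹ * t * x = σ.z by rw [← hx]; group] at this, by
      have e' := orderOf_conj x⁻¹ e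
      rw [inv_inv] at e'
      rw [e']; exact ho⟩
    have hne : x⁻¹ * e * x ≠ 1 := fun hh => he1 (by
      calc e = x * (x⁻¹ * e * x) * x⁻¹ := by group
        _ = 1 := by rw [hh]; group)
    have hxM : x ∈ σ.M := h.mem_M_of_conj_mem h3 hu hne (by
      rw [show x * (x⁻¹ * e * x) * x⁻¹ = e by group]; exact he)
    refine heU ?_
    have := h.conj_mem_U_of_normalizer hxM hu
    rwa [show x * (x⁻¹ * e * x) * x⁻¹ = e by group] at this
  have hodd : Odd (Nat.card (centralizer ({e} : Set G))) := by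
    rw [← Nat.not_even_iff_odd, even_iff_two_dvd]
    intro h2
    have : Fact (Nat.Prime 2) := ⟨Nat.prime_two⟩
    obtain ⟨⟨t, ht⟩, hto⟩ := exists_prime_orderOf_dvd_card' 2 h2
    rw [Subgroup.orderOf_mk] at hto
    exact hCodd t hto (commute_of_mem_centralizer ht)
  -- an outer involution inverting `e`
  set b := σ.s 1 with hb
  have hbM : b ∈ σ.M := h.cz_le_M (σ.commute_s_z 1)
  have hbb : b * b = 1 := involution_sq (σ.orderOf_s 1)
  have hbz : b * σ.z * b⁻¹ = σ.z := conj_eq_of_commute (σ.commute_s_z 1)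
  have hba : b * σ.s 0 * b⁻¹ = σ.z * σ.s 0 := by
    rw [hb, σ.z_mul_s, Dat.s, Dat.s, Dat.s, ← map_inv, ← map_mul, ← map_mul]
    exact congrArg σ.f (by decide)
  have hbswap : b * p * b⁻¹ = q ∧ b * q * b⁻¹ = p := by
    have hbza : b * (σ.z * σ.s 0) * b⁻¹ = σ.s 0 := by
      rw [show b * (σ.z * σ.s 0) * b⁻¹ = b * σ.z * b⁻¹ * (b * σ.s 0 * b⁻¹) by group, hbz, hba,
        ← mul_assoc, involution_sq σ.orderOf_z, one_mul]
    rcases hp with ⟨rfl, rfl⟩ | ⟨rfl, rfl⟩
    · exact ⟨hba, hbza⟩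
    · exact ⟨hbza, hba⟩
  set c := b * e * b⁻¹ * e with hc
  have hcM : c ∈ σ.M := mul_mem (mul_mem (mul_mem hbM he) (inv_mem hbM)) he
  have hcz' : Commute c σ.z := commute_of_conj_eq (by
    rw [hc, show b * e * b⁻¹ * e * σ.z * (b * e * b⁻¹ * e)⁻¹ =
      b * (e * (b⁻¹ * (e * σ.z * e⁻¹) * b) * e⁻¹) * b⁻¹ by group, hz1,
      show b⁻¹ * p * b = q by rw [← hbswap.2]; group, hq1, hbz])
  obtain ⟨d, hd, hd1⟩ := h.exists_ne_one
  have hcd : Commute c d := by
    have hed : Commute e d := h.odd_commute he ho hd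
    refine Commute.mul_left ?_ hed
    have := h.odd_commute (mul_mem (mul_mem hbM he) (inv_mem hbM)) (by rw [orderOf_conj]; exact ho) hd
    exact this
  obtain ⟨pp, u, hu, hcu⟩ := σ.exists_split hcz'
  have hpp : pp * sr 0 = sr 0 * pp := (σ.commute_f_iff (h.mem_D hd) hd1 pp).1 (by
    have := (hcu ▸ hcd).mul_left (show Commute u d from σ.comm_U hu hd).inv_left
    rwa [mul_inv_cancel_right] at this)
  set v := σ.f pp with hv
  have hvcase : v = 1 ∨ v ∈ σ.I := by
    by_cases h1 : pp = 1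
    · left; rw [hv, h1, map_one]
    · right
      obtain ⟨hi, -⟩ := h.four_mem_invs hd hd1 hpp h1
      exact h.mem_I_of_invs hd hd1 hi
  have hvu : ∀ x ∈ σ.U, Commute v x := fun x hx => σ.commute_f_of_pair hpp (h.mem_D hx)
  have hsum : v * (e * v * e⁻¹) * (e⁻¹ * v * e) = 1 := by
    have hqz : e⁻¹ * σ.z * e = q := by rw [← hq1]; group
    have hpz : e⁻¹ * p * e = σ.z := by rw [← hz1]; group
    have hqp : e⁻¹ * q * e = p := by rw [← hp1]; group
    have hpI : p ∈ σ.I := by rcases hp with ⟨rfl, -⟩ | ⟨rfl, -⟩; exacts [h.s_zero_mem_I, h.za_mem_I]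
    have hqI : q ∈ σ.I := by rcases hp with ⟨-, rfl⟩ | ⟨-, rfl⟩; exacts [h.za_mem_I, h.s_zero_mem_I]
    have hpq1 : σ.z * p * q = 1 := by rw [hpq]; exact involution_sq hqI.1
    have hc1 := h.I_commute h3 h.z_mem_I hpI
    rcases hvcase with e0 | e0
    · rw [e0]; group
    · have hvv : v = σ.z ∨ v = p ∨ v = q := by
        rcases h.I_cases h3 e0 with r | r | r
        · exact Or.inl r
        · rcases hp with ⟨hp', -⟩ | ⟨-, hq'⟩
          · exact Or.inr (Or.inl (r.trans hp'.symm))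
          · exact Or.inr (Or.inr (r.trans hq'.symm))
        · rcases hp with ⟨-, hq'⟩ | ⟨hp', -⟩
          · exact Or.inr (Or.inr (r.trans hq'.symm))
          · exact Or.inr (Or.inl (r.trans hp'.symm))
      rcases hvv with r | r | r <;> rw [r]
      · rw [hz1, hqz, hpq1]
      · rw [hp1, hpz, mul_assoc, (h.I_commute h3 hqI h.z_mem_I).eq, ← mul_assoc, ← hc1.eq, hpq1]
      · rw [hq1, hqp, mul_assoc, hpq, involution_sq hqI.1]
  set v0 := e⁻¹ * v * e with hv0
  set r := v0 * b with hr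
  have hve : ∀ k : G, (k = 1 ∨ k ∈ σ.I) → e * k * e⁻¹ = 1 ∨ e * k * e⁻¹ ∈ σ.I := by
    rintro k (rfl | hk)
    · exact Or.inl (by group)
    · exact Or.inr (heI k hk)
  have hv0c : v0 = 1 ∨ v0 ∈ σ.I := by
    rcases hvcase with e0 | e0
    · left; rw [hv0, e0]; group
    · right
      have := h.conj_mem_I (inv_mem he) e0
      rwa [inv_inv] at this
  have hv0M : v0 ∈ σ.M := by
    rw [hv0]
    exact mul_mem (mul_mem (inv_mem he) (h.sylow_le_M (σ.range ▸ ⟨pp, rfl⟩))) he
  have hrM : r ∈ σ.M := mul_mem hv0M hbM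
  have hsq : ∀ k : G, (k = 1 ∨ k ∈ σ.I) → k * k = 1 := by
    rintro k (rfl | hk)
    exacts [one_mul 1, involution_sq hk.1]
  have hbe : b * e * b⁻¹ = v * u * e⁻¹ := by rw [← hcu, hc]; group
  have heu : Commute e u := h.odd_commute he ho hu
  have hre : r * e * r⁻¹ = u * e⁻¹ := by
    have hv0u : Commute v0 u := by
      rcases hv0c with e0 | e0
      · rw [e0]; exact Commute.one_left u
      · exact e0.2 u hu
    have h0 : v0 * v * (e⁻¹ * v0⁻¹ * e) = 1 := by
      have e1 : e⁻¹ * v0⁻¹ * e = e * v * e⁻¹ := by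
        rw [hv0, show (e⁻¹ * v * e)⁻¹ = e⁻¹ * v⁻¹ * e by group,
          inv_eq_of_mul_eq_one_right (hsq v hvcase),
          show e⁻¹ * (e⁻¹ * v * e) * e = (e ^ 3)⁻¹ * (e * v * e⁻¹) * e ^ 3 by
            rw [pow_succ, pow_two]; group, he3, inv_one, one_mul, mul_one]
      rw [e1, mul_assoc]
      exact mul_eq_one_comm.1 hsum
    rw [hr, show v0 * b * e * (v0 * b)⁻¹ = v0 * (b * e * b⁻¹) * v0⁻¹ by group, hbe,
      show v0 * (v * u * e⁻¹) * v0⁻¹ = v0 * v * u * (e⁻¹ * v0⁻¹ * e) * e⁻¹ by group]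
    have hcm : Commute u (e⁻¹ * v0⁻¹ * e) :=
      (heu.symm.inv_right.mul_right hv0u.symm.inv_right).mul_right heu.symm
    rw [mul_assoc (v0 * v) u, hcm.eq, ← mul_assoc (v0 * v), h0, one_mul]
  have hru : ∀ x ∈ σ.U, r * x * r⁻¹ = x⁻¹ := by
    intro x hx
    rw [hr, show v0 * b * x * (v0 * b)⁻¹ = v0 * (b * x * b⁻¹) * v0⁻¹ by group, hb, h.b_inverts hx]
    refine conj_eq_of_commute ?_
    rcases hv0c with e0 | e0
    · rw [e0]; exact Commute.one_left _
    · exact e0.2 _ (inv_mem hx)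
  set t := r * r with ht
  have htc : t = 1 ∨ t ∈ σ.I := by
    rw [ht, hr, show v0 * b * (v0 * b) = v0 * (b * v0 * b⁻¹) * (b * b) by group, hbb, mul_one]
    rcases hv0c with e0 | e0
    · left; rw [e0]; group
    · have hI' := h.conj_mem_I hbM e0
      by_cases h1 : v0 = b * v0 * b⁻¹
      · left; rw [← h1]; exact involution_sq e0.1
      · right
        have hcomm := h.I_commute h3 e0 hI'
        refine ⟨orderOf_eq_two_of (fun hh => h1 ?_) ?_, fun x hx => (e0.2 x hx).mul_left (hI'.2 x hx)⟩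
        · rw [mul_eq_one_iff_eq_inv, involution_inv hI'.1] at hh
          exact hh
        · rw [show v0 * (b * v0 * b⁻¹) * (v0 * (b * v0 * b⁻¹)) =
            v0 * ((b * v0 * b⁻¹) * v0) * (b * v0 * b⁻¹) by group, ← hcomm.eq,
            show v0 * (v0 * (b * v0 * b⁻¹)) * (b * v0 * b⁻¹) =
              (v0 * v0) * (b * (v0 * v0) * b⁻¹) by group, involution_sq e0.1]
          group
  have hte : t * e * t⁻¹ = e * (u⁻¹ * u⁻¹) := by
    rw [ht, show r * r * e * (r * r)⁻¹ = r * (r * e * r⁻¹) * r⁻¹ by group, hre,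
      show r * (u * e⁻¹) * r⁻¹ = r * u * r⁻¹ * (r * e * r⁻¹)⁻¹ by group, hru u hu, hre, mul_inv_rev,
      inv_inv, ← mul_assoc, ← heu.inv_right.eq, mul_assoc]
  have hu1 : u = 1 := by
    have h1 : t * (e * t⁻¹ * e⁻¹) = u⁻¹ * u⁻¹ := by
      calc t * (e * t⁻¹ * e⁻¹) = (t * e * t⁻¹) * e⁻¹ := by group
        _ = u⁻¹ * u⁻¹ := by
          rw [hte, (heu.inv_right.mul_right heu.inv_right).eq, mul_inv_cancel_right]
    have ht' : e * t⁻¹ * e⁻¹ = 1 ∨ e * t⁻¹ * e⁻¹ ∈ σ.I := by
      rw [inv_eq_of_mul_eq_one_right (hsq t htc)]; exact hve t htc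
    have hcomm : Commute t (e * t⁻¹ * e⁻¹) := by
      rcases htc with e0 | e0
      · rw [e0]; exact Commute.one_left _
      rcases ht' with e0' | e0'
      · rw [e0']; exact Commute.one_right _
      exact h.I_commute h3 e0 e0'
    have h2 : (u⁻¹ * u⁻¹) * (u⁻¹ * u⁻¹) = 1 := by
      rw [← h1, ← pow_two, hcomm.mul_pow, pow_two, pow_two, hsq t htc, hsq _ ht', one_mul]
    have h4 : u ^ 4 = 1 := by
      rw [← inv_inj, inv_one, ← inv_pow]
      calc u⁻¹ ^ 4 = (u⁻¹ * u⁻¹) * (u⁻¹ * u⁻¹) := by group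
        _ = 1 := h2
    exact orderOf_eq_one_iff.1 (Nat.eq_one_of_dvd_coprimes
      ((Nat.coprime_two_right.2 (σ.odd_orderOf hu)).pow_right 2) dvd_rfl (orderOf_dvd_of_pow_eq_one h4))
  rw [hu1, one_mul] at hre
  have ht1 : t = 1 := by
    rcases htc with e0 | e0
    · exact e0
    · exact absurd (commute_of_conj_eq (show t * e * t⁻¹ = e by rw [hte, hu1]; simp))
        (hCodd t e0.1)
  have hro : orderOf r = 2 := orderOf_eq_two_of (fun hh => by
    rw [hh, one_mul, inv_one, mul_one] at hre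
    exact he1 (eq_one_of_inv_self ho hre.symm)) ht1
  have hr2 : ∀ x ∈ centralizer ({e} : Set G), r * x * r⁻¹ ∈ centralizer ({e} : Set G) := by
    intro x hx
    refine mem_centralizer_of_commute ?_
    have := conj_commute (g := r) (commute_of_mem_centralizer hx)
    rw [hre] at this
    simpa using this.inv_right
  have hfpf : ∀ x ∈ centralizer ({e} : Set G), r * x * r⁻¹ = x → x = 1 := by
    intro x hx hxr
    by_contra hx1
    obtain ⟨k, hk⟩ := isConj_iff.1 (σ.one_class σ.z r σ.orderOf_z hro)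
    have hxo : Odd (orderOf x) := hodd.of_dvd_nat (orderOf_dvd_natCard _ hx)
    have hxU : k⁻¹ * x * k ∈ σ.U := σ.mem_U.2 ⟨by
      have := conj_commute (g := k⁻¹) (commute_of_conj_eq hxr).symm
      rwa [inv_inv, show k⁻¹ * r * k = σ.z by rw [← hk]; group] at this, by
      have e' := orderOf_conj k⁻¹ x
      rw [inv_inv] at e'
      rw [e']; exact hxo⟩
    have hne : k⁻¹ * x * k ≠ 1 := fun hh => hx1 (by
      calc x = k * (k⁻¹ * x * k) * k⁻¹ := by group
        _ = 1 := by rw [hh]; group)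
    have hek : k⁻¹ * e * k ∈ σ.M := h.cent_le_M hxU hne (by
      have := conj_commute (g := k⁻¹) (commute_of_mem_centralizer hx).symm
      rwa [inv_inv] at this)
    have hcom := conj_commute (g := k) (h.I_commute h3 (h.conj_mem_I hek h.z_mem_I) h.z_mem_I)
    rw [hk, show k * (k⁻¹ * e * k * σ.z * (k⁻¹ * e * k)⁻¹) * k⁻¹ =
      e * (k * σ.z * k⁻¹) * e⁻¹ by group, hk] at hcom
    -- `e r e⁻¹ = e ^ 2 r` commutes with `r`
    have h1 : e * r * e⁻¹ = e * e * r := by
      calc e * r * e⁻¹ = e * (r * e⁻¹ * r⁻¹) * r := by group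
        _ = e * e * r := by rw [← conj_inv, hre, inv_inv]
    rw [h1] at hcom
    have h2 : Commute (e * e) r := by
      have := hcom.mul_left (Commute.refl r).inv_left
      rwa [mul_inv_cancel_right] at this
    have h4 : (e * e) = (e * e)⁻¹ := by
      calc e * e = r * (e * e) * r⁻¹ := (conj_eq_of_commute h2.symm).symm
        _ = (r * e * r⁻¹) * (r * e * r⁻¹) := by group
        _ = (e * e)⁻¹ := by rw [hre]; group
    have h5 : e * e = 1 := eq_one_of_inv_self (by
      rw [← pow_two]; exact ho.of_dvd_nat (orderOf_pow_dvd 2)) h4.symm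
    exact he1 (eq_one_of_inv_self ho (inv_eq_of_mul_eq_one_right h5))
  have hinv := CfsgLib.PGroups.BSW.inverts_of_fpf _ ht1 hr2 hfpf
  refine hy (h.mem_M_of_conj_mem h3 hd hd1 ?_)
  -- `y d y⁻¹` centralises `e`
  have hye : Commute (y * d * y⁻¹) e := by
    have h1 := h.odd_commute hey (by
      have e' := orderOf_conj y⁻¹ e
      rw [inv_inv] at e'
      rw [e']; exact ho) hd
    have := conj_commute (g := y) h1.symm
    rwa [show y * (y⁻¹ * e * y) * y⁻¹ = e by group] at this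
  exact h.cent_le_M hd hd1 (CfsgLib.PGroups.BSW.commute_of_inverted _ hinv
    (mem_centralizer_of_commute hye) (mem_centralizer_of_commute (h.odd_commute he ho hd).symm))

/-- Two involutions of `M` outside `I` fixing a second point differ by an element of `I` fixing it. -/
theorem prod_mem_I {v t y : G} (hv : v ∈ σ.M) (hvo : orderOf v = 2) (hvI : v ∉ σ.I)
    (ht : t ∈ σ.M) (hto : orderOf t = 2) (htI : t ∉ σ.I) (hvy : y⁻¹ * v * y ∈ σ.M)
    (hty : y⁻¹ * t * y ∈ σ.M) (hy : y ∉ σ.M) (hne : v ≠ t) :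
    v * t ∈ σ.I ∧ y⁻¹ * (v * t) * y ∈ σ.M := by
  have : Fact (Nat.Prime 2) := ⟨Nat.prime_two⟩
  set x := v * t with hx
  have hxM : x ∈ σ.M := mul_mem hv ht
  have hxy : y⁻¹ * x * y ∈ σ.M := by
    rw [hx, show y⁻¹ * (v * t) * y = y⁻¹ * v * y * (y⁻¹ * t * y) by group]
    exact mul_mem hvy hty
  refine ⟨?_, hxy⟩
  have hxU : ∀ u ∈ σ.U, Commute x u := fun u hu => commute_of_conj_eq (by
    rw [hx, show v * t * u * (v * t)⁻¹ = v * (t * u * t⁻¹) * v⁻¹ by group,
      h.outer_inverts ht hto htI hu, ← conj_inv, h.outer_inverts hv hvo hvI hu, inv_inv])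
  obtain ⟨a, m, hm, hxo⟩ := Nat.exists_eq_two_pow_mul_odd (orderOf_pos x).ne'
  have hodd : x ^ 2 ^ a = 1 := h.eq_one_of_odd h3 (pow_mem hxM _) (by
    have := pow_mem hxy (2 ^ a)
    have e' : (y⁻¹ * x * y) ^ 2 ^ a = y⁻¹ * x ^ 2 ^ a * y := by
      have := conj_pow (a := y⁻¹) (b := x) (i := 2 ^ a)
      rwa [inv_inv] at this
    rwa [e'] at this) (by
    rw [orderOf_pow_of_dvd (pow_ne_zero _ two_ne_zero) (hxo ▸ dvd_mul_right _ _), hxo,
      Nat.mul_div_cancel_left _ (pow_pos two_pos a)]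
    exact hm) hy
  obtain ⟨d, hd, hd1⟩ := h.exists_ne_one
  have hzd := (h.mem_I_iff hd hd1).1 h.z_mem_I
  have had := (h.mem_I_iff hd hd1).1 h.s_zero_mem_I
  obtain ⟨S, f, hf, hS, hfv⟩ := σ.klein_sylow (h.mem_D hd) hd1 le_rfl hzd.2 had.2
  have hxd : x ∈ centralizer ({d} : Set G) := mem_centralizer_of_commute (hxU d hd)
  have hQ : IsPGroup 2 (zpowers (⟨x, hxd⟩ : centralizer ({d} : Set G))) := by
    obtain ⟨k, -, hk⟩ := (Nat.dvd_prime_pow Nat.prime_two).1 (orderOf_dvd_of_pow_eq_one hodd)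
    exact IsPGroup.of_card (n := k) (by rw [Nat.card_zpowers, ← Subgroup.orderOf_coe]; exact hk)
  obtain ⟨k, hk⟩ := CfsgLib.GW.exists_pull hS hQ
  obtain ⟨q, hq⟩ := hk _ (mem_zpowers _)
  have hq2 : q * q = 1 := (by decide : ∀ q : DihedralGroup (2 ^ 1), q * q = 1) q
  have hxx : x * x = 1 := by
    have h1 := congrArg (fun a : centralizer ({d} : Set G) => (a : G)) hq
    simp only [Subgroup.coe_mul, Subgroup.coe_inv] at h1
    have h2 : (f q : G) * (f q : G) = 1 := by
      rw [← Subgroup.coe_mul, ← map_mul, hq2, map_one]; rfl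
    rw [h1, show (k : G) * x * (k : G)⁻¹ * ((k : G) * x * (k : G)⁻¹) =
      (k : G) * (x * x) * (k : G)⁻¹ by group, conj_eq_one_iff] at h2
    exact h2
  refine ⟨orderOf_eq_two_of (fun e => hne ?_) hxx, hxU⟩
  rw [hx, mul_eq_one_iff_eq_inv, involution_inv hto] at e
  exact e

/-- There are too many outer involutions for the number of points. -/
theorem false_of_three : False := by
  classical
  obtain ⟨N, n, hN, hn, hi, hM, -⟩ := h.exists_index
  obtain ⟨t, ht, -, hhi, -⟩ := σ.exists_t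
  rw [h3] at hn
  subst hn
  set o := σ.o 0 with ho
  have := Fintype.ofFinite (G ⧸ σ.M)
  have := Fintype.ofFinite G
  set P₀ : G ⧸ σ.M := ((1 : G) : G ⧸ σ.M) with hP₀
  set O : Finset G := Finset.univ.filter fun v => v ∈ σ.M ∧ orderOf v = 2 ∧ v ∉ σ.I with hO
  set J : Finset G := {σ.z, σ.s 0, σ.z * σ.s 0} with hJ
  set T : Finset (G ⧸ σ.M) := Finset.univ.erase P₀ with hT
  have hOc : O.card = 6 * o := by
    rw [ho, ← h.natCard_outer h3, ← Nat.card_eq_finsetCard]
    exact Nat.card_congr (Equiv.subtypeEquivRight fun v => by simp [hO])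
  have hTc : T.card = N - 1 := by
    rw [hT, Finset.card_erase_of_mem (Finset.mem_univ _), Finset.card_univ, hN,
      Subgroup.index_eq_card, Nat.card_eq_fintype_card]
  have hbM : σ.s 1 ∈ σ.M := h.cz_le_M (σ.commute_s_z 1)
  have hP : ∀ {y : G}, (y : G ⧸ σ.M) = P₀ ↔ y ∈ σ.M := fun {y} => by
    rw [hP₀, QuotientGroup.eq, mul_one, inv_mem_iff]
  obtain ⟨k, hk⟩ := isConj_iff.1 (σ.one_class σ.z (σ.s 1) σ.orderOf_z (σ.orderOf_s 1))
  have hkM : k ∉ σ.M := fun hh => h.s_one_not_mem_I h3 (hk ▸ h.conj_mem_I hh h.z_mem_I)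
  -- the outer involution `b` fixes at least `2 o` further points
  have hbfix : 2 * o ≤ (T.filter fun p => σ.s 1 • p = p).card := by
    set C := centralizer ({σ.s 1} : Set G) with hC
    have hCc : Nat.card C = 8 * o := by
      have e : C = (centralizer ({σ.z} : Set G)).map (MulAut.conj k).toMonoidHom := by
        ext x
        rw [CfsgLib.TwoGroups.mem_map_conj, hC, mem_centralizer_singleton_iff,
          mem_centralizer_singleton_iff, ← hk]
        constructor
        · intro hx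
          calc k⁻¹ * x * k * σ.z = k⁻¹ * (x * (k * σ.z * k⁻¹)) * k := by group
            _ = _ := by rw [hx]; group
        · intro hx
          calc x * (k * σ.z * k⁻¹) = k * (k⁻¹ * x * k * σ.z) * k⁻¹ := by group
            _ = _ := by rw [hx]; group
      rw [e, CfsgLib.TwoGroups.natCard_map_conj, σ.natCard_cent, h.natCard_U]
    have h4 : Nat.card {x : C // (1 : G)⁻¹ * (x : G) * 1 ∈ σ.M} = 4 := by
      rw [← h.natCard_cent_b h3]
      exact Nat.card_congr
        { toFun := fun x => ⟨(x.1 : G), by simpa using x.2, x.1.2⟩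
          invFun := fun x => ⟨⟨(x : G), x.2.2⟩, by simpa using x.2.1⟩
          left_inv := fun x => rfl
          right_inv := fun x => rfl }
    have horb := orbit_card_mul C σ.M 1
    rw [h4, hCc] at horb
    have hsub : (Set.toFinite (orbit C P₀)).toFinset ⊆
        (Finset.univ : Finset (G ⧸ σ.M)).filter fun p => σ.s 1 • p = p := by
      intro p hp
      rw [Set.Finite.mem_toFinset] at hp
      obtain ⟨x, rfl⟩ := hp
      rw [Finset.mem_filter]
      refine ⟨Finset.mem_univ _, ?_⟩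
      show σ.s 1 • ((x : G) • P₀) = (x : G) • P₀
      have hc : Commute (x : G) (σ.s 1) := commute_of_mem_centralizer x.2
      rw [smul_smul, ← hc.eq, ← smul_smul,
        show σ.s 1 • P₀ = P₀ from smul_mk_eq_iff.2 (by simpa using hbM)]
    have hkfix : σ.s 1 • (k : G ⧸ σ.M) = (k : G ⧸ σ.M) := smul_mk_eq_iff.2 (by
      rw [← hk, show k⁻¹ * (k * σ.z * k⁻¹) * k = σ.z by group]
      exact h.cz_le_M (Commute.refl _))
    have hknot : (k : G ⧸ σ.M) ∉ orbit C P₀ := by
      rintro ⟨x, hx⟩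
      have hx' : ((x : G) : G ⧸ σ.M) = (k : G ⧸ σ.M) := by
        rw [← hx]; show _ = ((x : G) • P₀); rw [hP₀, MulAction.Quotient.smul_coe, smul_eq_mul, mul_one]
      rw [QuotientGroup.eq] at hx'
      refine h.s_one_not_mem_I h3 ?_
      have := h.conj_mem_I hx' h.z_mem_I
      rwa [show (x : G)⁻¹ * k * σ.z * ((x : G)⁻¹ * k)⁻¹ = (x : G)⁻¹ * (k * σ.z * k⁻¹) * x by group,
        hk, mul_assoc, ← (commute_of_mem_centralizer x.2).eq, inv_mul_cancel_left] at this
    have hins : insert (k : G ⧸ σ.M) (Set.toFinite (orbit C P₀)).toFinset ⊆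
        (Finset.univ : Finset (G ⧸ σ.M)).filter fun p => σ.s 1 • p = p :=
      Finset.insert_subset (by rw [Finset.mem_filter]; exact ⟨Finset.mem_univ _, hkfix⟩) hsub
    have hle := Finset.card_le_card hins
    rw [Finset.card_insert_of_notMem (by rwa [Set.Finite.mem_toFinset]),
      ← Set.ncard_eq_toFinset_card _ (Set.toFinite _), ← Nat.card_coe_set_eq] at hle
    have e : (T.filter fun p => σ.s 1 • p = p) =
        ((Finset.univ : Finset (G ⧸ σ.M)).filter fun p => σ.s 1 • p = p).erase P₀ := by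
      rw [hT, Finset.filter_erase]
    rw [e, Finset.card_erase_of_mem (by
      rw [Finset.mem_filter]; exact ⟨Finset.mem_univ _, smul_mk_eq_iff.2 (by simpa using hbM)⟩)]
    rw [← hP₀] at horb
    omega
  have hOfix : ∀ v ∈ O, 2 * o ≤ (T.filter fun p => v • p = p).card := by
    intro v hv
    simp only [hO, Finset.mem_filter] at hv
    obtain ⟨m, hm, rfl⟩ := h.exists_conj_outer hv.2.1 hv.2.2.1 hv.2.2.2
    refine le_trans hbfix (Finset.card_le_card_of_injOn (fun p => m • p) ?_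
      fun p _ q _ e => smul_left_cancel m e)
    intro p hp
    simp only [Finset.coe_filter, Set.mem_ofPred_eq, hT, Finset.mem_erase] at hp ⊢
    refine ⟨⟨fun e => hp.1.1 ?_, Finset.mem_univ _⟩, ?_⟩
    · have h0 : m • P₀ = P₀ := smul_mk_eq_iff.2 (by simpa using hm)
      exact smul_left_cancel m (e.trans h0.symm)
    · rw [smul_smul, show m * σ.s 1 * m⁻¹ * m = m * σ.s 1 by group, ← smul_smul, hp.2]
  -- an inner involution fixes at most `2 o` further points
  have hzfix : (T.filter fun p => σ.z • p = p).card ≤ 2 * o := by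
    set C := centralizer ({σ.z} : Set G) with hC
    have h4 : 4 ≤ Nat.card {x : C // k⁻¹⁻¹ * (x : G) * k⁻¹ ∈ σ.M} := by
      rw [← h.natCard_cent_b h3]
      refine Nat.card_le_card_of_injective (fun x => ⟨⟨k⁻¹ * (x : G) * k, ?_⟩, ?_⟩) ?_
      · refine mem_centralizer_of_commute ?_
        have := conj_commute (g := k⁻¹) (commute_of_mem_centralizer x.2.2)
        rwa [inv_inv, show k⁻¹ * σ.s 1 * k = σ.z by rw [← hk]; group] at this
      · show k⁻¹⁻¹ * (k⁻¹ * (x : G) * k) * k⁻¹ ∈ σ.M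
        rw [show k⁻¹⁻¹ * (k⁻¹ * (x : G) * k) * k⁻¹ = (x : G) by group]
        exact x.2.1
      · intro x x' e
        have := congrArg (fun q : {x : C // k⁻¹⁻¹ * (x : G) * k⁻¹ ∈ σ.M} => ((q.1 : C) : G)) e
        exact Subtype.ext (mul_left_cancel (mul_right_cancel this))
    have horb := orbit_card_mul C σ.M k⁻¹
    rw [σ.natCard_cent, h.natCard_U, ← ho] at horb
    have hsub : (T.filter fun p => σ.z • p = p) ⊆
        (Set.toFinite (orbit C ((k⁻¹ : G) : G ⧸ σ.M))).toFinset := by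
      intro p hp
      rw [Finset.mem_filter, hT, Finset.mem_erase] at hp
      rw [Set.Finite.mem_toFinset]
      obtain ⟨y, rfl⟩ := QuotientGroup.mk_surjective p
      have hy : y ∉ σ.M := fun hh => hp.1.1 (hP.2 hh)
      have hm : y⁻¹ * σ.z * y ∈ σ.M := smul_mk_eq_iff.1 hp.2
      have ho2 : orderOf (y⁻¹ * σ.z * y) = 2 := by
        have := orderOf_conj y⁻¹ σ.z
        rw [inv_inv] at this
        rw [this, σ.orderOf_z]
      by_cases hI : y⁻¹ * σ.z * y ∈ σ.I
      · exfalso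
        obtain ⟨x, hx, e⟩ := h.exists_conj_I hI
        have hc : Commute (y * x) σ.z := commute_of_conj_eq (by
          rw [show y * x * σ.z * (y * x)⁻¹ = y * (x * σ.z * x⁻¹) * y⁻¹ by group, e]; group)
        refine hy ?_
        have := mul_mem (h.cz_le_M hc) (inv_mem hx)
        rwa [mul_inv_cancel_right] at this
      obtain ⟨x, hx, e⟩ := h.exists_conj_outer hm ho2 hI
      have hc : Commute (y * x * k) σ.z := commute_of_conj_eq (by
        rw [show y * x * k * σ.z * (y * x * k)⁻¹ = y * (x * (k * σ.z * k⁻¹) * x⁻¹) * y⁻¹ by group,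
          hk, e]
        group)
      refine ⟨⟨y * x * k, mem_centralizer_of_commute hc⟩, ?_⟩
      show (y * x * k) • ((k⁻¹ : G) : G ⧸ σ.M) = (y : G ⧸ σ.M)
      rw [MulAction.Quotient.smul_coe, smul_eq_mul, mul_inv_cancel_right, QuotientGroup.eq,
        show (y * x)⁻¹ * y = x⁻¹ by group]
      exact inv_mem hx
    refine le_trans (Finset.card_le_card hsub) ?_
    rw [← Set.ncard_eq_toFinset_card _ (Set.toFinite _), ← Nat.card_coe_set_eq]
    nlinarith
  have hJfix : ∀ v ∈ J, (T.filter fun p => v • p = p).card ≤ 2 * o := by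
    intro v hv
    have hvI : v ∈ σ.I := by
      simp only [hJ, Finset.mem_insert, Finset.mem_singleton] at hv
      rcases hv with rfl | rfl | rfl
      exacts [h.z_mem_I, h.s_zero_mem_I, h.za_mem_I]
    obtain ⟨m, hm, rfl⟩ := h.exists_conj_I hvI
    refine le_trans (Finset.card_le_card_of_injOn (fun p => m⁻¹ • p) ?_
      fun p _ q _ e => smul_left_cancel m⁻¹ e) hzfix
    intro p hp
    simp only [Finset.coe_filter, Set.mem_ofPred_eq, hT, Finset.mem_erase] at hp ⊢
    refine ⟨⟨fun e => hp.1.1 ?_, Finset.mem_univ _⟩, ?_⟩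
    · have h0 : m⁻¹ • P₀ = P₀ := smul_mk_eq_iff.2 (by simpa using hm)
      exact smul_left_cancel m⁻¹ (e.trans h0.symm)
    · rw [smul_smul, show σ.z * m⁻¹ = m⁻¹ * (m * σ.z * m⁻¹) by group, ← smul_smul, hp.2]
  have hpoint : ∀ p ∈ T,
      (O.filter fun v => v • p = p).card ≤ 1 + (J.filter fun v => v • p = p).card := by
    intro p hp
    obtain ⟨y, rfl⟩ := QuotientGroup.mk_surjective p
    have hy : y ∉ σ.M := fun hh => (Finset.mem_erase.1 hp).1 (hP.2 hh)
    by_cases hempty : (O.filter fun v => v • (y : G ⧸ σ.M) = (y : G ⧸ σ.M)) = ∅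
    · rw [hempty]; simp
    obtain ⟨v, hv⟩ := Finset.nonempty_iff_ne_empty.2 hempty
    refine le_trans (le_of_eq (Finset.card_erase_add_one hv).symm) ?_
    rw [add_comm 1]
    refine Nat.add_le_add_right (Finset.card_le_card_of_injOn (fun w => v * w) ?_
      fun _ _ _ _ e => mul_left_cancel e) 1
    intro w hw
    simp only [Finset.coe_erase, Set.mem_sdiff, Set.mem_singleton_iff, Finset.mem_coe, hO,
      Finset.mem_filter] at hw hv
    obtain ⟨h1, h2⟩ := h.prod_mem_I h3 hv.1.2.1 hv.1.2.2.1 hv.1.2.2.2 hw.1.1.2.1 hw.1.1.2.2.1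
      hw.1.1.2.2.2 (smul_mk_eq_iff.1 hv.2) (smul_mk_eq_iff.1 hw.1.2) hy (Ne.symm hw.2)
    simp only [Finset.coe_filter, Set.mem_ofPred_eq]
    exact ⟨by simpa [hJ] using h.I_cases h3 h1, smul_mk_eq_iff.2 h2⟩
  have hswapO : ∑ p ∈ T, (O.filter fun v => v • p = p).card =
      ∑ v ∈ O, (T.filter fun p => v • p = p).card := by
    simp_rw [Finset.card_filter]; exact Finset.sum_comm
  have hswapJ : ∑ p ∈ T, (J.filter fun v => v • p = p).card =
      ∑ v ∈ J, (T.filter fun p => v • p = p).card := by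
    simp_rw [Finset.card_filter]; exact Finset.sum_comm
  have h1 : O.card * (2 * o) ≤ ∑ v ∈ O, (T.filter fun p => v • p = p).card := by
    rw [← smul_eq_mul]; exact Finset.card_nsmul_le_sum _ _ _ hOfix
  have h2 : ∑ v ∈ J, (T.filter fun p => v • p = p).card ≤ 3 * (2 * o) := by
    refine le_trans (Finset.sum_le_card_nsmul _ _ _ hJfix) ?_
    rw [smul_eq_mul]
    exact Nat.mul_le_mul_right _ Finset.card_le_three
  have h4 : ∑ p ∈ T, (O.filter fun v => v • p = p).card ≤
      T.card + ∑ p ∈ T, (J.filter fun v => v • p = p).card := by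
    refine le_trans (Finset.sum_le_sum hpoint) (le_of_eq ?_)
    rw [Finset.sum_add_distrib, Finset.sum_const, smul_eq_mul, mul_one]
  rw [hswapO, hswapJ, hTc] at h4
  rw [hOc] at h1
  rw [hi, h.one] at ht
  rw [h.one] at hhi
  have h5 : 5 ≤ o := h.five
  have hN1 : 1 ≤ N := by rw [hN]; exact Nat.one_le_iff_ne_zero.2 Subgroup.index_ne_zero_of_finite
  have hkey : 12 * o * o ≤ (N - 1) + 6 * o := by nlinarith
  have hsq : (2 * t) ^ 2 ≤ (7 * (σ.o 0 + 1)) ^ 2 := Nat.pow_le_pow_left hhi 2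
  have : N - 1 + 1 = N := by omega
  nlinarith

end OneSided

end CfsgLib.Recog.SmallCentralizer
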