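import Cfsg.Agent.Lib.Recog.SmallCentralizer.Both
import Cfsg.Agent.Lib.Recog.SmallCentralizer.Three
import Cfsg.Agent.Lib.Recog.SmallCentralizer.Fifteen

/-!
# The orders of the simple groups with a dihedral Sylow 2-subgroup and `C(w) = ⟨w⟩`

They are 168, 360 and 2520.
-/

set_option autoImplicit false

namespace CfsgLib.Recog.SmallCentralizer

universe u

variable {G : Type u} [Group G] [Finite G] [IsSimpleGroup G]

theorem OneSided.false {σ : Dat G} (h : OneSided σ) : False := by
  obtain ⟨N, n, -, hn, -, -, hcase⟩ := h.exists_index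
  rcases hcase with rfl | rfl
  · exact h.false_of_three hn.symm
  · exact h.false_of_fifteen hn.symm

namespace Dat

theorem order_of_small (σ : Dat G) (h1 : σ.o 1 = 1) (h0 : σ.o 0 = 1 ∨ σ.o 0 = 3) :
    Nat.card G = 168 ∨ Nat.card G = 360 ∨ Nat.card G = 2520 := by
  obtain ⟨t, ht, hlo, hhi, hdvd⟩ := σ.exists_t
  have hG := σ.natCard_G
  rcases h0 with h0 | h0 <;> rw [h0, h1] at ht hlo hhi hdvd hG <;> norm_num at ht hlo hhi hdvd hG
  · rcases one_one_arith σ.odd_idx (by simpa using ht) (by omega) (by omega) with e | e <;>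
      rw [e] at hG <;> norm_num at hG <;> simp [hG]
  · rcases three_one_arith σ.odd_idx (by simpa using ht) (by omega) (by omega)
      (by simpa using hdvd) with e | e <;>
      rw [e] at hG <;> norm_num at hG
    · simp [hG]
    · exact (false_3672 σ.not_isMulCommutative hG).elim

/-- The possible orders. -/
theorem order_cases (σ : Dat G) :
    Nat.card G = 168 ∨ Nat.card G = 360 ∨ Nat.card G = 2520 := by
  suffices key : ∀ τ : Dat G, τ.o 1 = 1 →
      Nat.card G = 168 ∨ Nat.card G = 360 ∨ Nat.card G = 2520 by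
    rcases Nat.lt_or_ge (σ.o 1) 2 with h | h
    · exact key σ (by have := σ.o_pos 1; omega)
    rcases Nat.lt_or_ge (σ.o 0) 2 with h0 | h0
    · exact key σ.swap (by rw [σ.swap_o_one]; have := σ.o_pos 0; omega)
    exact (σ.false_of_both h0 h).elim
  intro τ h1
  rcases Nat.lt_or_ge (τ.o 0) 5 with h | h
  · have := τ.o_pos 0
    have := Nat.odd_iff.1 (τ.odd_o 0)
    exact τ.order_of_small h1 (by omega)
  · exact (OneSided.false ⟨h1, h⟩).elim

end Dat

end CfsgLib.Recog.SmallCentralizer
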